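import Groth.Agent.QuadConn.Family
import Mathlib.FieldTheory.IsAlgClosed.AlgebraicClosure
import Mathlib.RingTheory.Jacobson.Ring
import Mathlib.RingTheory.Spectrum.Prime.Topology

/-!
# Connectedness of the fibres of special orthogonal groups
-/

set_option autoImplicit false
noncomputable section

universe u

open Matrix
open scoped TensorProduct
open Groth.Agent.QuadCentre Groth.Agent.QuadSm
open QuadGrp (baseChangeForm)

namespace Groth.Agent.QuadConn

section Points

variable {R : Type u} [CommRing R] {K : Type u} [Field K] [Algebra R K]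

theorem det_word {V : Type u} [AddCommGroup V] [Module K V] [FiniteDimensional K V] (q : QuadraticForm K V)
    (l : List {x : V // q x ≠ 0}) : LinearEquiv.det (l.map (rfl' q)).prod = (-1) ^ l.length := by
  induction l with
  | nil => simp
  | cons x l ih => rw [List.map_cons, List.prod_cons, map_mul, ih, rfl', det_refl, List.length_cons, pow_succ']

theorem nondeg_even {n : ℕ} (Q : QuadraticForm R (Fin n → R)) (hQ : QuadGrp.IsRegular Q) :
    Nondeg (baseChangeForm K Q) := fun x hx _ =>
  (CliffSm.isRegular_baseChange Q (A := K) hQ).injective (LinearMap.ext fun y => by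
    rw [QuadraticMap.polarBilin_apply_apply, hx, map_zero, LinearMap.zero_apply])

theorem hdA_baseChange_ne_zero {n : ℕ} (Q : QuadraticForm R (Fin n → R))
    (hu : IsUnit (hdA (table Q))) :
    hdA (CliffSm.tableOf (Q := baseChangeForm K Q) (bA R n K)) ≠ 0 := by
  rw [show bA R n K = (Pi.basisFun R (Fin n)).baseChange K from rfl, CliffSm.tableOf_baseChange, ← hdA_map]
  exact (hu.map (algebraMap R K)).ne_zero

theorem nondeg_odd {n : ℕ} (hn : Odd n) (Q : QuadraticForm R (Fin n → R)) (hu : IsUnit (hdA (table Q))) :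
    Nondeg (baseChangeForm K Q) := fun x hx hx0 => by
  have h := (CliffSm.nondegenerate_of_hdA (bA R n K) (baseChangeForm K Q) hn
    (hdA_baseChange_ne_zero Q hu)).radical_eq_bot
  have hmem : x ∈ (baseChangeForm K Q).radical := ⟨hx0, LinearMap.ext fun y => hx y⟩
  rwa [h, Submodule.mem_bot] at hmem

theorem ew_odd [IsAlgClosed K] {n : ℕ} (hn : Odd n) (Q : QuadraticForm R (Fin n → R))
    (hu : IsUnit (hdA (table Q))) (g : (K ⊗[R] (Fin n → R)) ≃ₗ[K] (K ⊗[R] (Fin n → R)))
    (hg : g ∈ QuadGrp.sorth Q K) : EW Q g := by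
  haveI : Module.Finite K (K ⊗[R] (Fin n → R)) := Module.Finite.of_basis (bA R n K)
  have hgood := (mem_sorth_iff_odd Q hn K g).1 hg
  have hO := (mem_O_iff_good Q K g).2 ⟨hgood.1, hgood.2.1, fun h => absurd h (by simp)⟩
  have hq := nondeg_odd (K := K) hn Q hu
  obtain ⟨l, hl⟩ := isWord_of_mem_O _ hq hO
  by_cases hev : Even l.length
  · exact hl ▸ ew_of_even Q l hev
  have hdet : LinearEquiv.det g = 1 := (det_eq_one_iff K g).2 (hgood.2.2 rfl)
  rw [← hl, det_word, (Nat.not_even_iff_odd.1 hev).neg_one_pow] at hdet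
  have h2 : (2 : K) = 0 := by
    have := congrArg Units.val hdet
    simp only [Units.val_neg, Units.val_one] at this
    linear_combination -this
  set a := CliffSm.tableOf (Q := baseChangeForm K Q) (bA R n K)
  have hdet0 : (polA a).det = 0 := by rw [← two_mul_hdA hn, h2, zero_mul]
  obtain ⟨c, hc0, hc⟩ := Matrix.exists_mulVec_eq_zero_iff.mpr hdet0
  let x := ∑ j, c j • bA R n K j
  have hxr : ∀ y, QuadraticMap.polar (baseChangeForm K Q) x y = 0 := by
    have : QuadraticMap.polarBilin (baseChangeForm K Q) x = 0 := by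
      refine (bA R n K).ext fun i => ?_
      have hi := congrFun hc i
      simp only [Matrix.mulVec, dotProduct, Pi.zero_apply] at hi
      simp only [x, map_sum, map_smul, LinearMap.sum_apply, LinearMap.smul_apply,
        QuadraticMap.polarBilin_apply_apply, LinearMap.zero_apply, smul_eq_mul]
      refine Eq.trans (Finset.sum_congr rfl fun j _ => ?_) hi
      rw [mul_comm, QuadraticMap.polar_comm, CliffSm.polA_tableOf]
    exact fun y => congr($this y)
  have hxne : x ≠ 0 := fun h => hc0 (funext fun j => by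
    have := congr((bA R n K).repr $h j)
    simpa [x, Finsupp.single_apply] using this)
  have hqx : baseChangeForm K Q x ≠ 0 := fun h => hxne (hq x hxr h)
  have h1 : rfl' (baseChangeForm K Q) ⟨x, hqx⟩ = 1 := LinearEquiv.ext fun v => by
    rw [rfl'_apply]
    simp only
    rw [hxr v, mul_zero, zero_smul, sub_zero]
    rfl
  have hl' : ((⟨x, hqx⟩ :: l).map (rfl' (baseChangeForm K Q))).prod = g := by
    rw [List.map_cons, List.prod_cons, h1, one_mul, hl]
  exact hl' ▸ ew_of_even Q _ (by rw [List.length_cons]; exact (Nat.not_even_iff_odd.1 hev).add_one)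

theorem ew_even [IsAlgClosed K] {k : ℕ} (hk : 1 ≤ k) (Q : QuadraticForm R (Fin (2 * k) → R))
    (hQ : QuadGrp.IsRegular Q) (g : (K ⊗[R] (Fin (2 * k) → R)) ≃ₗ[K] (K ⊗[R] (Fin (2 * k) → R)))
    (hg : g ∈ QuadGrp.sorth Q K) : EW Q g := by
  haveI : Module.Finite K (K ⊗[R] (Fin (2 * k) → R)) := Module.Finite.of_basis (bA R (2 * k) K)
  set q := baseChangeForm K Q
  rw [mem_sorth_iff_even Q (even_two_mul k)] at hg
  have hq := nondeg_even (K := K) Q hQ
  obtain ⟨l, hl⟩ := isWord_of_mem_O _ hq hg.1
  by_cases hev : Even l.length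
  · exact hl ▸ ew_of_even Q l hev
  exfalso
  match l, hl, hev with
  | [], _, hev => exact hev (by simp)
  | x :: l, hl, hev =>
    have hl2 : (l.map (rfl' q)).prod ∈ QuadGrp.SOeven q := by
      refine (mem_sorth_iff_even Q (even_two_mul k) K _).1 (EW.mem Q (ew_of_even Q l ?_))
      rw [List.length_cons, Nat.even_add_one, not_not] at hev
      exact hev
    have hx : rfl' q x ∈ QuadGrp.SOeven q := by
      rw [List.map_cons, List.prod_cons] at hl
      rw [← eq_mul_inv_iff_mul_eq] at hl
      rw [hl]
      exact mul_mem hg (inv_mem hl2)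
    have hall : ∀ y, rfl' q y ∈ QuadGrp.SOeven q := fun y => by
      have : rfl' q y = rfl' q x * (rfl' q x * rfl' q y) := by
        refine LinearEquiv.ext fun v => ?_
        rw [LinearEquiv.mul_apply, LinearEquiv.mul_apply]
        exact (refl_refl _ _ _ _ _).symm
      rw [this]
      exact mul_mem hx (refl_mul_mem_SOeven _ _ _ _ _ _ _)
    have htop : (QuadGrp.SOeven q).subgroupOf (QuadGrp.O q) = ⊤ := by
      rw [Subgroup.subgroupOf_eq_top]
      intro h hh
      obtain ⟨m, rfl⟩ := isWord_of_mem_O _ hq hh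
      refine Subgroup.list_prod_mem _ fun z hz => ?_
      obtain ⟨y, -, rfl⟩ := List.mem_map.1 hz
      exact hall y
    have hind := CliffSm.soeven_index (bA R (2 * k) K) (CliffSm.isRegular_baseChange Q (A := K) hQ) hk
    rw [htop, Subgroup.index_top] at hind
    omega

end Points

section Connected

variable {R : Type u} [CommRing R] {n : ℕ} {Q : QuadraticForm R (Fin n → R)}
  {B : Type u} [CommRing B] [Algebra R B] {H : Matrix (Fin n) (Fin n) B}

theorem connectedSpace_geometric_fibre (P : Pres Q B H) [Algebra.FiniteType R B]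
    (K : Type u) [Field K] [IsAlgClosed K] [Algebra R K] (hew : ∀ g ∈ QuadGrp.sorth Q K, EW Q g) :
    ConnectedSpace (PrimeSpectrum (K ⊗[R] B)) := by
  obtain ⟨φ₁, hφ₁⟩ := P.exists_hom K 1 (one_mem _)
  haveI : Nontrivial (K ⊗[R] B) := (evalAt φ₁).toRingHom.domain_nontrivial
  have hpt : ∀ m : Ideal (K ⊗[R] B), m.IsMaximal → ∃ x : K ⊗[R] B →ₐ[K] K, ∀ z ∈ m, x z = 0 := by
    intro m hm
    letI := Ideal.Quotient.field m
    haveI : Algebra.FiniteType K ((K ⊗[R] B) ⧸ m) :=
      Algebra.FiniteType.of_surjective (Ideal.Quotient.mkₐ K m) Ideal.Quotient.mk_surjective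
    haveI : Module.Finite K ((K ⊗[R] B) ⧸ m) := finite_of_finite_type_of_isJacobsonRing K _
    let e : (K ⊗[R] B) ⧸ m →ₐ[K] K := IsAlgClosed.lift
    exact ⟨e.comp (Ideal.Quotient.mkₐ K m), fun z hz => by
      rw [AlgHom.comp_apply, show Ideal.Quotient.mkₐ K m z = 0 from Ideal.Quotient.eq_zero_iff_mem.2 hz, map_zero]⟩
  have hidem : ∀ ε : K ⊗[R] B, IsIdempotentElem ε → ε = 0 ∨ ε = 1 := by
    intro ε hε
    have hval : ∀ x : K ⊗[R] B →ₐ[K] K, x ε = evalAt φ₁ ε := fun x => by
      have hx : x = evalAt ((x.restrictScalars R).comp Algebra.TensorProduct.includeRight) :=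
        Algebra.TensorProduct.ext (AlgHom.ext fun k => (x.commutes k).trans (by simp [evalAt]))
          (AlgHom.ext fun b => by simp [evalAt])
      rw [hx]
      exact eval_eq P hε hew _ φ₁ hφ₁
    rcases IsIdempotentElem.iff_eq_zero_or_one.1 (hε.map (evalAt φ₁)) with h | h
    · left
      have hu : IsUnit (1 - ε) := by
        by_contra hne
        obtain ⟨m, hm, hmem⟩ := exists_max_ideal_of_mem_nonunits hne
        obtain ⟨x, hx⟩ := hpt m hm
        have := hx _ hmem
        rw [map_sub, map_one, hval, h, sub_zero] at this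
        exact one_ne_zero this
      exact (hu.mul_left_eq_zero).1 (by rw [mul_sub, mul_one, hε.eq, sub_self])
    · right
      have hu : IsUnit ε := by
        by_contra hne
        obtain ⟨m, hm, hmem⟩ := exists_max_ideal_of_mem_nonunits hne
        obtain ⟨x, hx⟩ := hpt m hm
        have := hx _ hmem
        rw [hval, h] at this
        exact one_ne_zero this
      exact hu.mul_left_cancel (by rw [mul_one, hε.eq])
  haveI : PreconnectedSpace (PrimeSpectrum (K ⊗[R] B)) := by
    rw [preconnectedSpace_iff_clopen]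
    intro s hs
    obtain ⟨e, he, rfl⟩ := PrimeSpectrum.isClopen_iff.1 hs
    rcases hidem e he with rfl | rfl
    · left; simp
    · right; simp
  exact ConnectedSpace.mk inferInstance

/-- The set over a point of the base is connected. -/
theorem isConnected_preimage [Algebra.FiniteType R B] (P : Pres Q B H)
    (hew : ∀ (K : Type u) [Field K] [IsAlgClosed K] [Algebra R K], ∀ g ∈ QuadGrp.sorth Q K, EW Q g)
    (p : PrimeSpectrum R) : IsConnected (PrimeSpectrum.comap (algebraMap R B) ⁻¹' {p}) := by
  let K := AlgebraicClosure p.asIdeal.ResidueField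
  haveI := connectedSpace_geometric_fibre P K (hew K)
  let π : PrimeSpectrum (K ⊗[R] B) → PrimeSpectrum B :=
    PrimeSpectrum.comap (Algebra.TensorProduct.includeRight : B →ₐ[R] K ⊗[R] B).toRingHom
  have hK : RingHom.ker (algebraMap R K) = p.asIdeal := by
    rw [IsScalarTower.algebraMap_eq R p.asIdeal.ResidueField K,
      RingHom.ker_comp_of_injective _ (algebraMap p.asIdeal.ResidueField K).injective,
      Ideal.ker_algebraMap_residueField]
  suffices h : Set.range π = PrimeSpectrum.comap (algebraMap R B) ⁻¹' {p} by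
    rw [← h]
    exact isConnected_range (PrimeSpectrum.continuous_comap _)
  ext q
  constructor
  · rintro ⟨z, rfl⟩
    refine PrimeSpectrum.ext ?_
    ext r
    show (1 : K) ⊗ₜ[R] algebraMap R B r ∈ z.asIdeal ↔ r ∈ p.asIdeal
    have hr : (1 : K) ⊗ₜ[R] algebraMap R B r = algebraMap K (K ⊗[R] B) (algebraMap R K r) := by
      rw [Algebra.TensorProduct.algebraMap_apply, Algebra.algebraMap_self, RingHom.id_apply,
        Algebra.algebraMap_eq_smul_one, Algebra.algebraMap_eq_smul_one, TensorProduct.smul_tmul]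
    rw [hr, ← SetLike.ext_iff.1 hK r, RingHom.mem_ker]
    refine ⟨fun h => ?_, fun h => by rw [h, map_zero]; exact zero_mem _⟩
    by_contra hne
    exact z.isPrime.ne_top (Ideal.eq_top_of_isUnit_mem _ h ((isUnit_iff_ne_zero.2 hne).map _))
  · intro hq
    replace hq : q.asIdeal.comap (algebraMap R B) = p.asIdeal := congrArg PrimeSpectrum.asIdeal hq
    let L := AlgebraicClosure q.asIdeal.ResidueField
    letI : Algebra p.asIdeal.ResidueField L :=
      ((algebraMap q.asIdeal.ResidueField L).comp
        (Ideal.ResidueField.map p.asIdeal q.asIdeal (algebraMap R B) hq.symm)).toAlgebra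
    haveI : IsScalarTower R p.asIdeal.ResidueField L := IsScalarTower.of_algebraMap_eq fun r => by
      show algebraMap R L r = algebraMap q.asIdeal.ResidueField L
        (Ideal.ResidueField.map p.asIdeal q.asIdeal (algebraMap R B) hq.symm (algebraMap R _ r))
      rw [Ideal.ResidueField.map_algebraMap, ← IsScalarTower.algebraMap_apply B q.asIdeal.ResidueField L,
        ← IsScalarTower.algebraMap_apply R B L]
    let jK : K →ₐ[p.asIdeal.ResidueField] L := IsAlgClosed.lift
    let χ : K ⊗[R] B →ₐ[R] L :=
      Algebra.TensorProduct.lift (jK.restrictScalars R) (IsScalarTower.toAlgHom R B L) (fun _ _ => Commute.all _ _)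
    refine ⟨⟨RingHom.ker χ.toRingHom, RingHom.ker_isPrime _⟩, PrimeSpectrum.ext ?_⟩
    ext b
    show χ ((1 : K) ⊗ₜ[R] b) = 0 ↔ b ∈ q.asIdeal
    simp only [χ, Algebra.TensorProduct.lift_tmul, map_one, one_mul, IsScalarTower.coe_toAlgHom']
    rw [IsScalarTower.algebraMap_apply B q.asIdeal.ResidueField L, map_eq_zero,
      Ideal.algebraMap_residueField_eq_zero]

end Connected

end Groth.Agent.QuadConn
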