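import Groth.Agent.QuadSm.Main
import Groth.Agent.CliffSm.EvenGroup
import Groth.Agent.CliffSm.Coord

/-!
# The Dickson idempotent of an orthogonal group of even rank
-/

set_option autoImplicit false
noncomputable section

universe u

open Matrix CliffordAlgebra
open scoped TensorProduct
open Groth.Agent.QuadCentre Groth.Agent.QuadSm
open QuadGrp (baseChangeForm)
open Groth.Agent.CliffSm (cMap cMap_ι cMap_algebraMap cMap_mem_evenOdd autOf)

namespace Groth.Agent.QuadConn

variable {R : Type u} [CommRing R] {n : ℕ} (Q : QuadraticForm R (Fin n → R))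

/-- The point of a matrix. -/
def autMat (A : Type u) [CommRing A] [Algebra R A] (M : Matrix (Fin n) (Fin n) A) (h : IsUnit M.det) :
    (A ⊗[R] (Fin n → R)) ≃ₗ[A] (A ⊗[R] (Fin n → R)) :=
  Matrix.toLinearEquiv (bA R n A) M h

theorem mat_autMat (A : Type u) [CommRing A] [Algebra R A] (M : Matrix (Fin n) (Fin n) A) (h : IsUnit M.det) :
    mat A (autMat (R := R) A M h) = M :=
  LinearMap.toMatrix_toLin _ _ M

theorem mem_O_iff_good (A : Type u) [CommRing A] [Algebra R A]
    (e : (A ⊗[R] (Fin n → R)) ≃ₗ[A] (A ⊗[R] (Fin n → R))) :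
    e ∈ QuadGrp.O (baseChangeForm A Q) ↔ Good (table Q) false A (mat A e) :=
  ⟨fun h => (mem_orth_iff_good Q A e).1 (mem_O_baseChange Q A e h),
    fun h v => congrArg (TensorProduct.AlgebraTensorModule.rid R A A) ((mem_orth_iff_good Q A e).2 h v)⟩

theorem repr_apply (A : Type u) [CommRing A] [Algebra R A]
    (e : (A ⊗[R] (Fin n → R)) ≃ₗ[A] (A ⊗[R] (Fin n → R))) (v : A ⊗[R] (Fin n → R)) :
    ⇑((bA R n A).repr (e v)) = mat A e *ᵥ ⇑((bA R n A).repr v) :=
  (LinearMap.toMatrix_mulVec_repr (bA R n A) (bA R n A) e.toLinearMap v).symm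

theorem apply_rTensor {A B : Type u} [CommRing A] [Algebra R A] [CommRing B] [Algebra R B] (φ : A →ₐ[R] B)
    (g : (A ⊗[R] (Fin n → R)) ≃ₗ[A] (A ⊗[R] (Fin n → R)))
    (g' : (B ⊗[R] (Fin n → R)) ≃ₗ[B] (B ⊗[R] (Fin n → R))) (h : mat B g' = (mat A g).map φ)
    (v : A ⊗[R] (Fin n → R)) :
    g' (LinearMap.rTensor _ φ.toLinearMap v) = LinearMap.rTensor _ φ.toLinearMap (g v) := by
  apply (bA R n B).repr.injective
  refine Finsupp.ext fun i => ?_
  rw [repr_apply, h, repr_rTensor, repr_apply]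
  refine Eq.trans ?_ (RingHom.map_mulVec φ.toRingHom (mat A g) _ i).symm
  refine congrArg (fun w => ((mat A g).map φ *ᵥ w) i) (funext fun j => ?_)
  exact repr_rTensor A φ v j

theorem intertwine_cMap {A B : Type u} [CommRing A] [Algebra R A] [CommRing B] [Algebra R B] (φ : A →ₐ[R] B)
    (g : (A ⊗[R] (Fin n → R)) ≃ₗ[A] (A ⊗[R] (Fin n → R)))
    (g' : (B ⊗[R] (Fin n → R)) ≃ₗ[B] (B ⊗[R] (Fin n → R))) (h : mat B g' = (mat A g).map φ)
    {U : CliffordAlgebra (baseChangeForm A Q)} (hU : ∀ x, ι _ (g x) * U = U * ι _ x)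
    (x : B ⊗[R] (Fin n → R)) :
    ι (baseChangeForm B Q) (g' x) * cMap Q φ U = cMap Q φ U * ι (baseChangeForm B Q) x := by
  refine congr($((bA R n B).ext (f₁ := LinearMap.mulRight B (cMap Q φ U) ∘ₗ ι (baseChangeForm B Q) ∘ₗ g'.toLinearMap)
    (f₂ := LinearMap.mulLeft B (cMap Q φ U) ∘ₗ ι (baseChangeForm B Q)) fun j => ?_) x)
  have hb : bA R n B j = LinearMap.rTensor _ φ.toLinearMap (bA R n A j) := by
    rw [bA_apply, bA_apply, LinearMap.rTensor_tmul, AlgHom.toLinearMap_apply, map_one]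
  simp only [LinearMap.comp_apply, LinearEquiv.coe_coe, LinearMap.mulRight_apply, LinearMap.mulLeft_apply]
  rw [hb, apply_rTensor φ g g' h, ← cMap_ι, ← cMap_ι, ← map_mul, ← map_mul, hU]

variable {k : ℕ} (Q₂ : QuadraticForm R (Fin (2 * k) → R))

/-- A Dickson idempotent: it is one exactly at the points of the special orthogonal group. -/
theorem exists_dickson_idem (hQ : QuadGrp.IsRegular Q₂) :
    ∃ e : Coord (table Q₂) false, IsIdempotentElem e ∧
      ∀ (A : Type u) [CommRing A] [Algebra R A] (φ : Coord (table Q₂) false →ₐ[R] A)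
        (g : (A ⊗[R] (Fin (2 * k) → R)) ≃ₗ[A] (A ⊗[R] (Fin (2 * k) → R))),
        mat A g = (genH (table Q₂) false).map φ →
          (g ∈ QuadGrp.SOeven (baseChangeForm A Q₂) ↔ φ e = 1) := by
  classical
  let C := Coord (table Q₂) false
  let QC := baseChangeForm C Q₂
  have hgood := good_genH (table Q₂) false
  obtain ⟨gC, hgmat⟩ : ∃ gC, mat (R := R) C gC = genH (table Q₂) false :=
    ⟨_, mat_autMat C _ hgood.2.1⟩
  have hgC : gC ∈ QuadGrp.O QC := (mem_O_iff_good Q₂ C gC).2 (hgmat.symm ▸ hgood)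
  haveI : Module.Finite C (C ⊗[R] (Fin (2 * k) → R)) := Module.Finite.of_basis (bA R (2 * k) C)
  have hQC := CliffSm.isRegular_baseChange Q₂ (A := C) hQ
  -- the loci of the two parities
  let L : ZMod 2 → Set (PrimeSpectrum C) := fun i => {p | ∃ (U a : CliffordAlgebra QC) (t : C),
    t ∉ p.asIdeal ∧ U ∈ evenOdd QC i ∧ (∀ x, ι QC (gC x) * U = U * ι QC x) ∧ U * a = algebraMap C _ t}
  have hopen : ∀ i, IsOpen (L i) := fun i => by
    rw [isOpen_iff_forall_mem_open]
    rintro p ⟨U, a, t, ht, h⟩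
    exact ⟨↑(PrimeSpectrum.basicOpen t), fun q hq => ⟨U, a, t, hq, h⟩, (PrimeSpectrum.basicOpen t).isOpen, ht⟩
  have hcov : ∀ p, p ∈ L 0 ∨ p ∈ L 1 := fun p => by
    obtain ⟨i, U, a, a', t, ht, hUi, hint, hUa, -⟩ :=
      CliffSm.exists_intertwiner_at (bA R (2 * k) C) hQC gC hgC p.asIdeal
    obtain rfl | rfl : i = 0 ∨ i = 1 := (show ∀ j : ZMod 2, j = 0 ∨ j = 1 by decide) i
    · exact Or.inl ⟨U, a, t, ht, hUi, hint, hUa⟩
    · exact Or.inr ⟨U, a, t, ht, hUi, hint, hUa⟩
  have hdisj : ∀ p, p ∈ L 0 → p ∉ L 1 := by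
    rintro p ⟨U, a, t, ht, hUi, hint, hUa⟩ ⟨U', a', t', ht', hUi', hint', hUa'⟩
    have := CliffSm.parity_exclusive (bA R (2 * k) C) hQC gC hgC p.asIdeal
      (fun z hz => CliffSm.even_fix gC hgC hUi hint hUa z hz) hUi' hint' hUa'
    exact (p.isPrime.mem_or_mem this).elim ht ht'
  have hclopen : IsClopen (L 0) := by
    refine ⟨?_, hopen 0⟩
    have : (L 0)ᶜ = L 1 := Set.ext fun p =>
      ⟨fun h => (hcov p).resolve_left h, fun h h0 => hdisj p h0 h⟩
    exact ⟨this ▸ hopen 1⟩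
  obtain ⟨e, he, heL⟩ := PrimeSpectrum.isClopen_iff.1 hclopen
  refine ⟨e, he, fun A _ _ φ g hg => ?_⟩
  have hgO : g ∈ QuadGrp.O (baseChangeForm A Q₂) :=
    (mem_O_iff_good Q₂ A g).2 (hg ▸ hgood.map _ _ φ)
  haveI : Module.Finite A (A ⊗[R] (Fin (2 * k) → R)) := Module.Finite.of_basis (bA R (2 * k) A)
  have hQA := CliffSm.isRegular_baseChange Q₂ (A := A) hQ
  have hg' : mat A g = (mat C gC).map φ := hgmat.symm ▸ hg
  constructor
  · rintro ⟨_, hD⟩
    have hu : IsUnit (φ e) := by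
      by_contra hne
      obtain ⟨q, hq, hle⟩ := Ideal.exists_le_maximal (Ideal.span {φ e})
        (by rwa [Ne, Ideal.span_singleton_eq_top])
      haveI := hq.isPrime
      let p : PrimeSpectrum C := PrimeSpectrum.comap φ.toRingHom ⟨q, hq.isPrime⟩
      have hp : p ∉ L 0 := fun h => by
        rw [heL] at h
        exact h (hle (Ideal.mem_span_singleton_self _))
      obtain ⟨U, a, t, ht, hUi, hint, hUa⟩ := (hcov p).resolve_left hp
      have hUa' : cMap Q₂ φ U * cMap Q₂ φ a = algebraMap A _ (φ t) := by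
        rw [← map_mul, hUa, cMap_algebraMap]
      have := CliffSm.parity_exclusive (bA R (2 * k) A) hQA g hgO q (t := 1)
        (fun z hz => by rw [one_smul, ← CliffSm.autOf_eq_map, hD z hz, sub_self])
        (cMap_mem_evenOdd Q₂ φ hUi) (intertwine_cMap Q₂ φ gC g hg' hint) hUa'
      rw [one_mul] at this
      exact ht this
    exact hu.mul_left_cancel (by rw [mul_one, ← map_mul, he.eq])
  · intro hφ
    refine ⟨hgO, fun z hz => ?_⟩
    rw [CliffSm.autOf_eq_map, ← sub_eq_zero]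
    by_contra hne
    let J : Ideal A := (⊥ : Submodule A (CliffordAlgebra (baseChangeForm A Q₂))).comap
      (LinearMap.toSpanSingleton A _ (autOf g hgO (z : CliffordAlgebra (baseChangeForm A Q₂)) - z))
    obtain ⟨q, hq, hle⟩ := Ideal.exists_le_maximal J fun h => hne (by
      have h1 : (1 : A) ∈ J := by rw [h]; trivial
      simpa [J] using h1)
    haveI := hq.isPrime
    let p : PrimeSpectrum C := PrimeSpectrum.comap φ.toRingHom ⟨q, hq.isPrime⟩
    have hp : p ∈ L 0 := by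
      rw [heL]
      intro h
      have h' : φ e ∈ q := h
      rw [hφ] at h'
      exact hq.ne_top ((Ideal.eq_top_iff_one _).2 h')
    obtain ⟨U, a, t, ht, hUi, hint, hUa⟩ := hp
    have hUa' : cMap Q₂ φ U * cMap Q₂ φ a = algebraMap A _ (φ t) := by
      rw [← map_mul, hUa, cMap_algebraMap]
    have hfix := CliffSm.even_fix g hgO (cMap_mem_evenOdd Q₂ φ hUi) (intertwine_cMap Q₂ φ gC g hg' hint) hUa' z hz
    exact ht (hle (show φ t ∈ J by simpa [J] using hfix))

end Groth.Agent.QuadConn
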