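import Groth.Agent.QuadCentre.Refl
import Mathlib.FieldTheory.IsAlgClosed.Basic
import Mathlib.LinearAlgebra.Dual.Lemmas
import Mathlib.LinearAlgebra.FiniteDimensional.Lemmas

/-!
# Orthogonal groups over algebraically closed fields are generated by reflections
-/

set_option autoImplicit false
noncomputable section

universe u v

open QuadraticMap
open Groth.Agent.QuadCentre

namespace Groth.Agent.QuadConn

variable {K : Type u} [Field K] {V : Type v} [AddCommGroup V] [Module K V] (q : QuadraticForm K V)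

/-- The radical is anisotropic. -/
def Nondeg : Prop := ∀ x, (∀ y, polar q x y = 0) → q x = 0 → x = 0

/-- The reflection in an anisotropic vector. -/
def rfl' (x : {x : V // q x ≠ 0}) : V ≃ₗ[K] V := refl q x.1 (Units.mk0 (q x.1) x.2) rfl

theorem rfl'_apply (x : {x : V // q x ≠ 0}) (v : V) :
    rfl' q x v = v - ((q x.1)⁻¹ * polar q x.1 v) • x.1 := by
  simp [rfl', refl_apply]

/-- A product of reflections. -/
def IsWord (g : V ≃ₗ[K] V) : Prop := ∃ l : List {x : V // q x ≠ 0}, (l.map (rfl' q)).prod = g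

theorem IsWord.one : IsWord q 1 := ⟨[], rfl⟩

variable {q} in
theorem IsWord.mul {g h : V ≃ₗ[K] V} (hg : IsWord q g) (hh : IsWord q h) : IsWord q (g * h) := by
  obtain ⟨l, rfl⟩ := hg; obtain ⟨l', rfl⟩ := hh
  exact ⟨l ++ l', by rw [List.map_append, List.prod_append]⟩

variable {q} in
theorem IsWord.mem_O {g : V ≃ₗ[K] V} (hg : IsWord q g) : g ∈ QuadGrp.O q := by
  obtain ⟨l, rfl⟩ := hg
  refine Subgroup.list_prod_mem _ fun h hh => ?_
  obtain ⟨x, -, rfl⟩ := List.mem_map.1 hh
  exact refl_mem_O _ _ _ _

theorem isWord_refl (x : {x : V // q x ≠ 0}) : IsWord q (rfl' q x) :=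
  ⟨[x], by rw [List.map_singleton, List.prod_singleton]⟩

theorem polar_self_eq_zero {e : V} (he : q e = 0) : polar q e e = 0 := by
  rw [polar_self_eq, he, mul_zero]

theorem map_sub_of_isotropic {a b : V} (ha : q a = 0) (hb : q b = 0) : q (a - b) = -polar q a b := by
  rw [sub_eq_add_neg, QuadraticMap.map_add q, QuadraticMap.map_neg, ha, hb, zero_add, zero_add,
    polar_neg_right]

theorem exists_refl_swap {a b : V} (ha : q a = 0) (hb : q b = 0) (hab : polar q a b ≠ 0) :
    ∃ g, IsWord q g ∧ g a = b ∧ ∀ v, polar q a v = polar q b v → g v = v := by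
  have hx : q (a - b) ≠ 0 := by rwa [map_sub_of_isotropic q ha hb, neg_ne_zero]
  refine ⟨rfl' q ⟨a - b, hx⟩, isWord_refl q _, ?_, fun v hv => ?_⟩
  · rw [rfl'_apply]
    simp only
    rw [map_sub_of_isotropic q ha hb, polar_sub_left, polar_self_eq_zero q ha, zero_sub, polar_comm q b a,
      inv_mul_cancel₀ (neg_ne_zero.2 hab), one_smul, sub_sub_cancel]
  · rw [rfl'_apply]
    simp only
    rw [polar_sub_left, hv, sub_self, mul_zero, zero_smul, sub_zero]

theorem polar_map {g : V ≃ₗ[K] V} (hg : g ∈ QuadGrp.O q) (x y : V) : polar q (g x) (g y) = polar q x y := by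
  simp only [polar, ← map_add, hg _]

theorem map_sub_smul (v e : V) (c : K) (he : q e = 0) :
    q (v - c • e) = q v - c * polar q v e := by
  rw [sub_eq_add_neg, ← neg_smul, QuadraticMap.map_add q, QuadraticMap.map_smul, he,
    QuadraticMap.polar_smul_right, smul_zero, smul_eq_mul]
  ring

theorem exists_pairing_ne_zero (hq : Nondeg q) {e : V} (he : e ≠ 0) (hq0 : q e = 0) :
    ∃ y, polar q e y ≠ 0 := by
  by_contra! h
  exact he (hq e h hq0)

/-- Any two nonzero isotropic vectors are conjugate by reflections. -/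
theorem exists_move (hq : Nondeg q) {e e' : V} (he : e ≠ 0) (he' : e' ≠ 0) (h0 : q e = 0) (h0' : q e' = 0) :
    ∃ g, IsWord q g ∧ g e = e' := by
  by_cases hb : polar q e e' = 0
  · obtain ⟨y, hy⟩ := exists_pairing_ne_zero q hq he h0
    obtain ⟨z, hz⟩ := exists_pairing_ne_zero q hq he' h0'
    obtain ⟨f, hf, hf'⟩ : ∃ f, polar q e f ≠ 0 ∧ polar q e' f ≠ 0 := by
      by_cases h1 : polar q e' y = 0
      · by_cases h2 : polar q e z = 0
        · exact ⟨y + z, by rwa [polar_add_right, h2, add_zero], by rwa [polar_add_right, h1, zero_add]⟩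
        · exact ⟨z, h2, hz⟩
      · exact ⟨y, hy, h1⟩
    let e'' := f - (q f / polar q f e) • e
    have h0'' : q e'' = 0 := by
      rw [map_sub_smul q f e _ h0, div_mul_cancel₀ _ (by rwa [polar_comm]), sub_self]
    have h1 : polar q e e'' ≠ 0 := by
      rwa [polar_sub_right, polar_smul_right, polar_self_eq_zero q h0, smul_zero, sub_zero]
    have h2 : polar q e' e'' ≠ 0 := by
      rwa [polar_sub_right, polar_smul_right, polar_comm q e' e, hb, smul_zero, sub_zero]
    obtain ⟨g₁, hg₁, hge₁, -⟩ := exists_refl_swap q h0 h0'' h1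
    obtain ⟨g₂, hg₂, hge₂, -⟩ := exists_refl_swap q h0'' h0' (by rwa [polar_comm])
    exact ⟨g₂ * g₁, hg₂.mul hg₁, by rw [LinearEquiv.mul_apply, hge₁, hge₂]⟩
  · obtain ⟨g, hg, hge, -⟩ := exists_refl_swap q h0 h0' hb
    exact ⟨g, hg, hge⟩

/-- Hyperbolic partners of an isotropic vector are conjugate by reflections fixing it. -/
theorem exists_move_partner (hq : Nondeg q) [Infinite K] {e f f' : V} (h0 : q e = 0) (hf : q f = 0)
    (hf' : q f' = 0) (hef : polar q e f = 1) (hef' : polar q e f' = 1) :
    ∃ g, IsWord q g ∧ g e = e ∧ g f = f' := by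
  by_cases heq : f = f'
  · exact ⟨1, IsWord.one q, rfl, heq⟩
  have hfe : polar q f e = 1 := by rw [polar_comm, hef]
  have hfe' : polar q f' e = 1 := by rw [polar_comm, hef']
  by_cases hb : polar q f f' = 0
  · obtain ⟨u, hu, hqu⟩ : ∃ u, polar q e u = 0 ∧ q u ≠ 0 := by
      by_contra! h
      refine heq (sub_eq_zero.1 (hq (f - f') (fun y => ?_) (by rw [map_sub_of_isotropic q hf hf', hb, neg_zero])))
      have hw : polar q e (f - f') = 0 := by rw [polar_sub_right, hef, hef', sub_self]
      have hu : polar q e (y - polar q e y • f) = 0 := by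
        rw [polar_sub_right, polar_smul_right, hef, smul_eq_mul, mul_one, sub_self]
      have h1 : polar q (f - f') (y - polar q e y • f) = 0 := by
        rw [polar, h _ (by rw [polar_add_right, hw, hu, add_zero]), h _ hw, h _ hu, sub_self, sub_self]
      have h2 : polar q (f - f') f = 0 := by
        rw [polar_sub_left, polar_self_eq_zero q hf, polar_comm q f' f, hb, sub_self]
      rwa [polar_sub_right, polar_smul_right, h2, smul_zero, sub_zero] at h1
    classical
    obtain ⟨t, ht⟩ := Infinite.exists_notMem_finset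
      ({0, -(polar q f u - polar q f' u) / q u} : Finset K)
    simp only [Finset.mem_insert, Finset.mem_singleton, not_or] at ht
    obtain ⟨v, hvdef⟩ : ∃ v, v = t • u := ⟨_, rfl⟩
    have hv : polar q e v = 0 := by rw [hvdef, polar_smul_right, hu, smul_zero]
    have hev : polar q v e = 0 := by rw [polar_comm, hv]
    let f'' := f + v - (q v + polar q f v) • e
    have hf'' : q f'' = 0 := by
      rw [map_sub_smul q _ e _ h0, QuadraticMap.map_add q, hf, polar_add_left, hfe, hev]
      ring
    have hef'' : polar q e f'' = 1 := by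
      rw [polar_sub_right, polar_add_right, polar_smul_right, hef, hv, polar_self_eq_zero q h0]
      simp
    have hqv : q v ≠ 0 := by
      rw [hvdef, QuadraticMap.map_smul]; exact mul_ne_zero (mul_ne_zero ht.1 ht.1) hqu
    have h1 : polar q f f'' ≠ 0 := by
      rw [polar_sub_right, polar_add_right, polar_smul_right, polar_self_eq_zero q hf, hfe, smul_eq_mul]
      intro h
      apply hqv
      linear_combination -h
    have h2 : polar q f'' f' ≠ 0 := by
      rw [polar_comm, polar_sub_right, polar_add_right, polar_smul_right, polar_comm q f' f, hb, hfe',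
        smul_eq_mul, mul_one, hvdef, polar_smul_right, polar_smul_right, QuadraticMap.map_smul, smul_eq_mul,
        smul_eq_mul, smul_eq_mul]
      intro h
      have h' : t * (t * q u + (polar q f u - polar q f' u)) = 0 := by linear_combination -h
      rcases mul_eq_zero.1 h' with h' | h'
      · exact ht.1 h'
      · exact ht.2 (by rw [eq_div_iff hqu]; linear_combination h')
    obtain ⟨g₁, hg₁, hgf₁, hfix₁⟩ := exists_refl_swap q hf hf'' h1
    obtain ⟨g₂, hg₂, hgf₂, hfix₂⟩ := exists_refl_swap q hf'' hf' h2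
    have hf''e : polar q f'' e = 1 := by rw [polar_comm, hef'']
    refine ⟨g₂ * g₁, hg₂.mul hg₁, ?_, by rw [LinearEquiv.mul_apply, hgf₁, hgf₂]⟩
    rw [LinearEquiv.mul_apply, hfix₁ e (by rw [hfe, hf''e]), hfix₂ e (by rw [hf''e, hfe'])]
  · obtain ⟨g, hg, hgf, hfix⟩ := exists_refl_swap q hf hf' hb
    exact ⟨g, hg, hfix e (by rw [hfe, hfe']), hgf⟩

/-- A hyperbolic pair in dimension at least two. -/
theorem exists_hyperbolic [IsAlgClosed K] [FiniteDimensional K V] (hq : Nondeg q)
    (hd : 1 < Module.finrank K V) : ∃ e f, e ≠ 0 ∧ q e = 0 ∧ q f = 0 ∧ polar q e f = 1 := by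
  obtain ⟨e, he, h0⟩ : ∃ e, e ≠ 0 ∧ q e = 0 := by
    haveI : Nontrivial V := Module.nontrivial_of_finrank_pos (R := K) (by omega)
    obtain ⟨y, hy⟩ := exists_ne (0 : V)
    by_cases hqy : q y = 0
    · exact ⟨y, hy, hqy⟩
    obtain ⟨x, hx⟩ : ∃ x, x ∉ Submodule.span K {y} := by
      by_contra! h
      have h' : Submodule.span K {y} = ⊤ := Submodule.eq_top_iff'.2 h
      have := finrank_span_singleton (K := K) hy
      rw [h', finrank_top] at this
      omega
    obtain ⟨t, ht⟩ := IsAlgClosed.exists_root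
      (Polynomial.C (q y) * Polynomial.X ^ 2 + Polynomial.C (polar q x y) * Polynomial.X + Polynomial.C (q x))
      (by rw [Polynomial.degree_quadratic hqy]; decide)
    refine ⟨x + t • y, fun h => hx ?_, ?_⟩
    · rw [add_eq_zero_iff_eq_neg, ← neg_smul] at h
      rw [h]; exact Submodule.smul_mem _ _ (Submodule.mem_span_singleton_self y)
    · rw [QuadraticMap.map_add q, QuadraticMap.map_smul, polar_smul_right, smul_eq_mul, smul_eq_mul]
      simp only [Polynomial.IsRoot, Polynomial.eval_add, Polynomial.eval_mul, Polynomial.eval_C,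
        Polynomial.eval_pow, Polynomial.eval_X] at ht
      linear_combination ht
  obtain ⟨y, hy⟩ := exists_pairing_ne_zero q hq he h0
  obtain ⟨f₀, hef₀⟩ : ∃ f₀, polar q e f₀ = 1 :=
    ⟨(polar q e y)⁻¹ • y, by rw [polar_smul_right, smul_eq_mul, inv_mul_cancel₀ hy]⟩
  refine ⟨e, f₀ - q f₀ • e, he, h0, ?_, ?_⟩
  · rw [map_sub_smul q _ e _ h0, polar_comm, hef₀, mul_one, sub_self]
  · rw [polar_sub_right, polar_smul_right, polar_self_eq_zero q h0, smul_zero, sub_zero, hef₀]

theorem isWord_of_finrank_le_one [FiniteDimensional K V] (hq : Nondeg q) (hd : Module.finrank K V ≤ 1)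
    {g : V ≃ₗ[K] V} (hg : g ∈ QuadGrp.O q) : IsWord q g := by
  obtain ⟨v, hv⟩ := finrank_le_one_iff.1 hd
  by_cases hv0 : v = 0
  · have : g = 1 := LinearEquiv.ext fun w => by
      obtain ⟨c, rfl⟩ := hv w
      simp [hv0]
    exact this ▸ IsWord.one q
  have hqv : q v ≠ 0 := fun h => hv0 (hq v (fun y => by
    obtain ⟨c, rfl⟩ := hv y
    rw [polar_smul_right, polar_self_eq_zero q h, smul_zero]) h)
  obtain ⟨c, hc⟩ := hv (g v)
  have hc2 : (c - 1) * (c + 1) = 0 := by
    have := hg v
    rw [← hc, QuadraticMap.map_smul, smul_eq_mul] at this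
    have h' : (c * c - 1) * q v = 0 := by linear_combination this
    rcases mul_eq_zero.1 h' with h' | h'
    · linear_combination h'
    · exact absurd h' hqv
  rcases mul_eq_zero.1 hc2 with h | h
  · have : g = 1 := LinearEquiv.ext fun w => by
      obtain ⟨d, rfl⟩ := hv w
      rw [map_smul, ← hc, sub_eq_zero.1 h, one_smul]; rfl
    exact this ▸ IsWord.one q
  · have : g = rfl' q ⟨v, hqv⟩ := LinearEquiv.ext fun w => by
      obtain ⟨d, rfl⟩ := hv w
      rw [map_smul, ← hc, rfl'_apply, polar_smul_right, polar_self_eq, smul_eq_mul]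
      simp only
      rw [show (q v)⁻¹ * (d * (2 * q v)) = 2 * d by field_simp, eq_neg_of_add_eq_zero_left h]
      module
    exact this ▸ isWord_refl q _

theorem isWord_of_mem_O_aux [IsAlgClosed K] (N : ℕ) : ∀ (V : Type v) [AddCommGroup V] [Module K V]
    [FiniteDimensional K V] (q : QuadraticForm K V), Nondeg q → Module.finrank K V ≤ N →
    ∀ g ∈ QuadGrp.O q, IsWord q g := by
  induction N with
  | zero => exact fun V _ _ _ q hq hd g hg => isWord_of_finrank_le_one q hq (by omega) hg
  | succ N ih =>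
    intro V _ _ _ q hq hd g hg
    by_cases hd1 : Module.finrank K V ≤ 1
    · exact isWord_of_finrank_le_one q hq hd1 hg
    obtain ⟨e, f, he, h0, hf, hef⟩ := exists_hyperbolic q hq (by omega)
    have he' : g e ≠ 0 := fun h => he (g.map_eq_zero_iff.1 h)
    obtain ⟨h₁, hh₁, hhe⟩ := exists_move q hq he he' h0 (by rw [hg, h0])
    have hO₁ := hh₁.mem_O
    obtain ⟨h₂, hh₂, hhe₂, hhf₂⟩ := exists_move_partner q hq (e := g e) (f := h₁ f) (f' := g f)
      (by rw [hg, h0]) (by rw [hO₁, hf]) (by rw [hg, hf])
      (by rw [← hhe, polar_map q hO₁, hef]) (by rw [polar_map q hg, hef])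
    let h := h₂ * h₁
    have hw : IsWord q h := hh₂.mul hh₁
    let g' := h⁻¹ * g
    have hg' : g' ∈ QuadGrp.O q := mul_mem (inv_mem hw.mem_O) hg
    have hge : g' e = e := by
      show h.symm (g e) = e
      rw [LinearEquiv.symm_apply_eq, LinearEquiv.mul_apply, hhe, hhe₂]
    have hgf : g' f = f := by
      show h.symm (g f) = f
      rw [LinearEquiv.symm_apply_eq, LinearEquiv.mul_apply, hhf₂]
    let W : Submodule K V := LinearMap.ker (polarBilin q e) ⊓ LinearMap.ker (polarBilin q f)
    have hmem : ∀ v, v ∈ W ↔ polar q e v = 0 ∧ polar q f v = 0 := fun v => Iff.rfl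
    have hfe : polar q f e = 1 := by rw [polar_comm, hef]
    have hdec : ∀ v, v - (polar q f v • e + polar q e v • f) ∈ W := fun v => by
      rw [hmem]
      simp only [polar_sub_right, polar_add_right, polar_smul_right, hef, hfe, polar_self_eq_zero q h0,
        polar_self_eq_zero q hf, smul_eq_mul]
      constructor <;> ring
    have hlt : Module.finrank K W < Module.finrank K V := Submodule.finrank_lt fun htop => by
      have : e ∈ W := htop ▸ Submodule.mem_top
      rw [hmem, hfe] at this
      exact one_ne_zero this.2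
    let qW : QuadraticForm K W := q.comp W.subtype
    have hqW : Nondeg qW := fun x hx hx0 => Subtype.ext (hq x.1 (fun y => by
      have hxe : polar q x.1 e = 0 := by rw [polar_comm]; exact ((hmem _).1 x.2).1
      have hxf : polar q x.1 f = 0 := by rw [polar_comm]; exact ((hmem _).1 x.2).2
      have h := hx ⟨_, hdec y⟩
      have h' : polar q x.1 (y - (polar q f y • e + polar q e y • f)) = 0 := h
      simpa [polar_sub_right, polar_add_right, polar_smul_right, hxe, hxf] using h') hx0)
    have hstab : ∀ v ∈ W, g' v ∈ W := fun v hv => by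
      rw [hmem] at hv ⊢
      refine ⟨?_, ?_⟩
      · rw [← hge, polar_map q hg', hv.1]
      · rw [← hgf, polar_map q hg', hv.2]
    have hstab' : ∀ v ∈ W, g'.symm v ∈ W := fun v hv => by
      rw [hmem] at hv ⊢
      refine ⟨?_, ?_⟩
      · rw [← polar_map q hg', g'.apply_symm_apply, hge, hv.1]
      · rw [← polar_map q hg', g'.apply_symm_apply, hgf, hv.2]
    let gW : W ≃ₗ[K] W := LinearEquiv.ofLinearMap (g'.toLinearMap.restrict hstab) (g'.symm.toLinearMap.restrict hstab')
      (LinearMap.ext fun x => Subtype.ext (g'.apply_symm_apply _))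
      (LinearMap.ext fun x => Subtype.ext (g'.symm_apply_apply _))
    obtain ⟨l, hl⟩ := ih W qW hqW (by omega) gW fun x => hg' x.1
    have hlift : ∀ l : List {x : W // qW x ≠ 0}, ∃ k, IsWord q k ∧ k e = e ∧ k f = f ∧
        ∀ x : W, k x = ((l.map (rfl' qW)).prod x).1 := by
      intro l
      induction l with
      | nil => exact ⟨1, IsWord.one q, rfl, rfl, fun _ => rfl⟩
      | cons x l ihl =>
        obtain ⟨k, hk, hke, hkf, hkW⟩ := ihl
        have hxe : polar q x.1.1 e = 0 := by rw [polar_comm]; exact ((hmem _).1 x.1.2).1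
        have hxf : polar q x.1.1 f = 0 := by rw [polar_comm]; exact ((hmem _).1 x.1.2).2
        refine ⟨rfl' q ⟨x.1.1, x.2⟩ * k, (isWord_refl q _).mul hk, ?_, ?_, fun y => ?_⟩
        · rw [LinearEquiv.mul_apply, hke, rfl'_apply]; simp [hxe]
        · rw [LinearEquiv.mul_apply, hkf, rfl'_apply]; simp [hxf]
        · rw [LinearEquiv.mul_apply, hkW, rfl'_apply, List.map_cons, List.prod_cons, LinearEquiv.mul_apply,
            rfl'_apply]
          rfl
    obtain ⟨k, hk, hke, hkf, hkW⟩ := hlift l
    have hgk : g' = k := LinearEquiv.ext fun v => by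
      conv_lhs => rw [← sub_add_cancel v (polar q f v • e + polar q e v • f)]
      conv_rhs => rw [← sub_add_cancel v (polar q f v • e + polar q e v • f)]
      simp only [map_add, map_smul, hge, hgf, hke, hkf]
      congr 1
      exact ((hkW ⟨_, hdec v⟩).trans (by rw [hl]; rfl)).symm
    have : g = h * k := by rw [← hgk]; exact (mul_inv_cancel_left h g).symm
    exact this ▸ hw.mul hk

/-- Every isometry is a product of reflections. -/
theorem isWord_of_mem_O [IsAlgClosed K] [FiniteDimensional K V] (hq : Nondeg q) {g : V ≃ₗ[K] V}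
    (hg : g ∈ QuadGrp.O q) : IsWord q g :=
  isWord_of_mem_O_aux (Module.finrank K V) V q hq le_rfl g hg

end Groth.Agent.QuadConn
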