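import Groth.Agent.QuadConn.Pres
import Groth.Agent.QuadConn.Refl
import Mathlib.RingTheory.Localization.Away.Basic
import Mathlib.Algebra.Polynomial.AlgebraMap

/-!
# Families of points of special orthogonal groups
-/

set_option autoImplicit false
noncomputable section

universe u

open Matrix
open scoped TensorProduct
open Groth.Agent.QuadCentre Groth.Agent.QuadSm
open QuadGrp (baseChangeForm)

namespace Groth.Agent.QuadConn

variable {R : Type u} [CommRing R] {n : ℕ} (Q : QuadraticForm R (Fin n → R))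

section Natural

variable {A A' : Type u} [CommRing A] [Algebra R A] [CommRing A'] [Algebra R A'] (φ : A →ₐ[R] A')

theorem rTensor_vecA (c : Fin n → A) :
    LinearMap.rTensor (Fin n → R) φ.toLinearMap (vecA A c) = vecA (R := R) A' (φ ∘ c) :=
  (bA R n A').repr.injective (Finsupp.ext fun i => by
    rw [repr_rTensor, vecA_repr, vecA_repr]; rfl)

theorem q_rTensor (v : A ⊗[R] (Fin n → R)) :
    baseChangeForm A' Q (LinearMap.rTensor (Fin n → R) φ.toLinearMap v) = φ (baseChangeForm A Q v) := by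
  obtain ⟨c, rfl⟩ : ∃ c, v = vecA A c :=
    ⟨fun i => (bA R n A).repr v i, ((bA R n A).sum_repr v).symm⟩
  rw [rTensor_vecA, qA_vecA, qA_vecA]
  exact congr($((MvPolynomial.comp_aeval c φ).symm) (qpol Q))

theorem polar_rTensor (v w : A ⊗[R] (Fin n → R)) :
    QuadraticMap.polar (baseChangeForm A' Q) (LinearMap.rTensor (Fin n → R) φ.toLinearMap v)
      (LinearMap.rTensor (Fin n → R) φ.toLinearMap w) = φ (QuadraticMap.polar (baseChangeForm A Q) v w) := by
  simp only [QuadraticMap.polar, ← map_add, q_rTensor, map_sub]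

/-- Automorphisms compatible with a change of rings. -/
def Compat (g : (A ⊗[R] (Fin n → R)) ≃ₗ[A] (A ⊗[R] (Fin n → R)))
    (g' : (A' ⊗[R] (Fin n → R)) ≃ₗ[A'] (A' ⊗[R] (Fin n → R))) : Prop :=
  ∀ v, g' (LinearMap.rTensor (Fin n → R) φ.toLinearMap v) = LinearMap.rTensor (Fin n → R) φ.toLinearMap (g v)

theorem Compat.mul {g h : (A ⊗[R] (Fin n → R)) ≃ₗ[A] (A ⊗[R] (Fin n → R))}
    {g' h' : (A' ⊗[R] (Fin n → R)) ≃ₗ[A'] (A' ⊗[R] (Fin n → R))}
    (hg : Compat φ g g') (hh : Compat φ h h') : Compat φ (g * h) (g' * h') := fun v => by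
  rw [LinearEquiv.mul_apply, LinearEquiv.mul_apply, hh, hg]

theorem Compat.mat_eq {g : (A ⊗[R] (Fin n → R)) ≃ₗ[A] (A ⊗[R] (Fin n → R))}
    {g' : (A' ⊗[R] (Fin n → R)) ≃ₗ[A'] (A' ⊗[R] (Fin n → R))} (h : Compat φ g g') :
    mat A' g' = (mat A g).map φ := by
  ext i j
  simp only [mat, LinearMap.toMatrix_apply, LinearEquiv.coe_coe, Matrix.map_apply]
  rw [← repr_rTensor A φ, ← h (bA R n A j), bA_apply, bA_apply, LinearMap.rTensor_tmul,
    AlgHom.toLinearMap_apply, map_one]

theorem compat_refl {v : A ⊗[R] (Fin n → R)} {t : Aˣ} (ht : baseChangeForm A Q v = t)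
    {v' : A' ⊗[R] (Fin n → R)} {t' : A'ˣ} (ht' : baseChangeForm A' Q v' = t')
    (hv : LinearMap.rTensor (Fin n → R) φ.toLinearMap v = v') :
    Compat φ (refl (baseChangeForm A Q) v t ht) (refl (baseChangeForm A' Q) v' t' ht') := by
  subst hv
  have htt : t' = Units.map (φ : A →* A') t :=
    Units.ext (by rw [← ht', q_rTensor, ht]; rfl)
  subst htt
  intro w
  rw [refl_apply, refl_apply, polar_rTensor, map_sub]
  congr 1
  have hs : ∀ (c : A) (x : A ⊗[R] (Fin n → R)),
      LinearMap.rTensor (Fin n → R) φ.toLinearMap (c • x) = φ c • LinearMap.rTensor (Fin n → R) φ.toLinearMap x := by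
    intro c x
    induction x using TensorProduct.induction_on with
    | zero => simp
    | tmul a m => simp [TensorProduct.smul_tmul']
    | add x y hx hy => simp [hx, hy, smul_add]
  rw [hs, map_mul]
  rfl

end Natural

theorem refl_pair_mem_sorth (A : Type u) [CommRing A] [Algebra R A] (v w : A ⊗[R] (Fin n → R)) (s t : Aˣ)
    (hs : baseChangeForm A Q v = s) (ht : baseChangeForm A Q w = t) :
    refl _ v s hs * refl _ w t ht ∈ QuadGrp.sorth Q A := by
  haveI : Module.Free A (A ⊗[R] (Fin n → R)) := Module.Free.of_basis (bA R n A)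
  haveI : Module.Finite A (A ⊗[R] (Fin n → R)) := Module.Finite.of_basis (bA R n A)
  unfold QuadGrp.sorth QuadGrp.SO
  split_ifs
  · exact refl_mul_mem_SOeven _ _ _ _ _ _ _
  · exact ⟨mul_mem (refl_mem_O _ _ _ _) (refl_mem_O _ _ _ _), det_refl_mul _ _ _ _ _ _ _⟩

variable {K : Type u} [Field K] [Algebra R K]

/-- Products of an even number of reflections. -/
inductive EW : ((K ⊗[R] (Fin n → R)) ≃ₗ[K] (K ⊗[R] (Fin n → R))) → Prop
  | one : EW 1
  | cons (x y : {v : K ⊗[R] (Fin n → R) // baseChangeForm K Q v ≠ 0}) (g) :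
      EW g → EW (rfl' _ x * rfl' _ y * g)

theorem EW.mem {g : (K ⊗[R] (Fin n → R)) ≃ₗ[K] (K ⊗[R] (Fin n → R))} (h : EW Q g) :
    g ∈ QuadGrp.sorth Q K := by
  induction h with
  | one => exact one_mem _
  | cons x y g _ ih => exact mul_mem (refl_pair_mem_sorth Q K _ _ _ _ _ _) ih

theorem ew_of_even (l : List {v : K ⊗[R] (Fin n → R) // baseChangeForm K Q v ≠ 0}) :
    Even l.length → EW Q ((l.map (rfl' _)).prod) := by
  induction l using List.twoStepInduction with
  | nil => exact fun _ => EW.one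
  | singleton x => intro h; simp at h
  | cons_cons x y l ih _ =>
    intro h
    rw [List.map_cons, List.map_cons, List.prod_cons, List.prod_cons, ← mul_assoc]
    refine EW.cons x y _ (ih ?_)
    rw [List.length_cons, List.length_cons] at h
    simpa [Nat.even_add_one] using h

section Val

variable {Q} {B : Type u} [CommRing B] [Algebra R B] {H : Matrix (Fin n) (Fin n) B}

/-- The value of a function at a point. -/
def evalAt {A : Type u} [CommRing A] [Algebra R A] [Algebra K A] [IsScalarTower R K A] (φ : B →ₐ[R] A) :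
    K ⊗[R] B →ₐ[K] A :=
  Algebra.TensorProduct.lift (Algebra.ofId K A) φ (fun _ _ => Commute.all _ _)

theorem evalAt_comp {A A' : Type u} [CommRing A] [Algebra R A] [Algebra K A] [IsScalarTower R K A]
    [CommRing A'] [Algebra R A'] [Algebra K A'] [IsScalarTower R K A'] (ψ : A →ₐ[K] A') (φ : B →ₐ[R] A) :
    ψ.comp (evalAt φ) = evalAt ((ψ.restrictScalars R).comp φ) := by
  refine Algebra.TensorProduct.ext (AlgHom.ext fun k => ?_) (AlgHom.ext fun b => ?_)
  · simp [evalAt]
  · simp [evalAt]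

variable (P : Pres Q B H)
include P

theorem eval_step {ε : K ⊗[R] B} (hε : IsIdempotentElem ε)
    (x y : {v : K ⊗[R] (Fin n → R) // baseChangeForm K Q v ≠ 0})
    {g : (K ⊗[R] (Fin n → R)) ≃ₗ[K] (K ⊗[R] (Fin n → R))} (hg : g ∈ QuadGrp.sorth Q K)
    (φ φ' : B →ₐ[R] K) (hφ : H.map φ = mat K g) (hφ' : H.map φ' = mat K (rfl' _ x * rfl' _ y * g)) :
    evalAt φ' ε = evalAt φ ε := by
  classical
  -- the line of vectors from `x` to `y`
  let cx : Fin n → K := fun i => (bA R n K).repr x.1 i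
  let cy : Fin n → K := fun i => (bA R n K).repr y.1 i
  let c : Fin n → Polynomial K := fun i => Polynomial.C (cx i) + Polynomial.X * Polynomial.C (cy i - cx i)
  let w := vecA (R := R) (Polynomial K) c
  set p : Polynomial K := baseChangeForm (Polynomial K) Q w
  have hev : ∀ s : K, LinearMap.rTensor (Fin n → R) ((Polynomial.aeval s).restrictScalars R).toLinearMap w =
      vecA K fun i => cx i + s * (cy i - cx i) := by
    intro s
    rw [rTensor_vecA]
    congr 1
    funext i
    simp [c]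
  have hx0 : vecA (R := R) K (fun i => cx i + 0 * (cy i - cx i)) = x.1 := by
    simp only [zero_mul, add_zero]
    exact (bA R n K).sum_repr x.1
  have hy1 : vecA (R := R) K (fun i => cx i + 1 * (cy i - cx i)) = y.1 := by
    simp only [one_mul, add_sub_cancel]
    exact (bA R n K).sum_repr y.1
  have hp : ∀ s : K, Polynomial.aeval s p = baseChangeForm K Q (vecA K fun i => cx i + s * (cy i - cx i)) := by
    intro s
    rw [← hev, q_rTensor]
    rfl
  have hp0 : p ≠ 0 := fun h => x.2 (by rw [← hx0, ← hp, h, map_zero])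
  -- the ring of the family
  let A := Localization.Away p
  haveI : IsDomain A := IsLocalization.isDomain_localization (powers_le_nonZeroDivisors_of_noZeroDivisors hp0)
  let ι₀ : Polynomial K →ₐ[R] A := IsScalarTower.toAlgHom R (Polynomial K) A
  let wA := LinearMap.rTensor (Fin n → R) ι₀.toLinearMap w
  have hwA : baseChangeForm A Q wA = algebraMap (Polynomial K) A p := q_rTensor Q ι₀ w
  let t := (IsLocalization.Away.algebraMap_isUnit (S := A) p).unit
  have ht : baseChangeForm A Q wA = t := hwA.trans (IsUnit.unit_spec _).symm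
  let j : K →ₐ[R] A := IsScalarTower.toAlgHom R K A
  let yA := LinearMap.rTensor (Fin n → R) j.toLinearMap y.1
  let s : Aˣ := Units.map (j : K →* A) (Units.mk0 _ y.2)
  have hs : baseChangeForm A Q yA = s := q_rTensor Q j y.1
  obtain ⟨gA, hgA, hgAm⟩ := P.mem A (j.comp φ)
  have hm : refl _ wA t ht * refl _ yA s hs * gA ∈ QuadGrp.sorth Q A :=
    mul_mem (refl_pair_mem_sorth Q A _ _ _ _ _ _) hgA
  obtain ⟨Φ, hΦ⟩ := P.exists_hom A _ hm
  have key : ∀ (ψ : A →ₐ[K] K) (v : {v : K ⊗[R] (Fin n → R) // baseChangeForm K Q v ≠ 0}),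
      LinearMap.rTensor (Fin n → R) (ψ.restrictScalars R).toLinearMap wA = v.1 →
      H.map ((ψ.restrictScalars R).comp Φ) = mat K (rfl' _ v * rfl' _ y * g) := by
    intro ψ v hv
    have hψj : (ψ.restrictScalars R).comp j = AlgHom.id R K := AlgHom.ext fun k => ψ.commutes k
    rw [AlgHom.coe_comp, ← Matrix.map_map, hΦ]
    refine (Compat.mat_eq _ (Compat.mul _ (Compat.mul _ (compat_refl Q _ _ _ hv) (compat_refl Q _ _ _ ?_)) ?_)).symm
    · rw [← LinearMap.comp_apply, ← LinearMap.rTensor_comp, ← AlgHom.comp_toLinearMap, hψj]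
      exact LinearMap.rTensor_id_apply (Fin n → R) K y.1
    · refine apply_rTensor _ gA g ?_
      rw [hgAm, Matrix.map_map, ← AlgHom.coe_comp, ← AlgHom.comp_assoc, hψj, AlgHom.id_comp, hφ]
  have mk : ∀ s₀ : K, IsUnit (Polynomial.aeval s₀ p) → ∃ ψ : A →ₐ[K] K,
      LinearMap.rTensor (Fin n → R) (ψ.restrictScalars R).toLinearMap wA =
        vecA K fun i => cx i + s₀ * (cy i - cx i) := by
    intro s₀ hs₀
    refine ⟨IsLocalization.liftAlgHom (M := Submonoid.powers p) (S := A) (f := Polynomial.aeval s₀) ?_, ?_⟩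
    · rintro ⟨z, N, rfl⟩
      simpa using hs₀.pow N
    · rw [← hev, ← LinearMap.comp_apply, ← LinearMap.rTensor_comp, ← AlgHom.comp_toLinearMap]
      congr 2
      ext z
      exact IsLocalization.lift_eq _ z
  obtain ⟨ψ₀, hψ₀⟩ := mk 0 (by rw [hp, hx0]; exact isUnit_iff_ne_zero.2 x.2)
  obtain ⟨ψ₁, hψ₁⟩ := mk 1 (by rw [hp, hy1]; exact isUnit_iff_ne_zero.2 y.2)
  have h0 : (ψ₀.restrictScalars R).comp Φ = φ' := P.hom_ext K _ _ (by rw [key ψ₀ x (hψ₀.trans hx0), hφ'])
  have h1 : (ψ₁.restrictScalars R).comp Φ = φ := P.hom_ext K _ _ (by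
    rw [key ψ₁ y (hψ₁.trans hy1), hφ]
    congr 1
    refine LinearEquiv.ext fun v => ?_
    rw [LinearEquiv.mul_apply, LinearEquiv.mul_apply, rfl', refl_refl])
  rw [← h0, ← h1, ← evalAt_comp, ← evalAt_comp, AlgHom.comp_apply, AlgHom.comp_apply]
  rcases IsIdempotentElem.iff_eq_zero_or_one.1 (hε.map (evalAt Φ)) with h | h <;> rw [h] <;> simp

theorem eval_eq {ε : K ⊗[R] B} (hε : IsIdempotentElem ε)
    (hew : ∀ g ∈ QuadGrp.sorth Q K, EW Q g) (φ : B →ₐ[R] K) (φ₁ : B →ₐ[R] K)
    (hφ₁ : H.map φ₁ = mat K (1 : (K ⊗[R] (Fin n → R)) ≃ₗ[K] (K ⊗[R] (Fin n → R)))) :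
    evalAt φ ε = evalAt φ₁ ε := by
  obtain ⟨g, hg, hgm⟩ := P.mem K φ
  have h := hew g hg
  clear hg
  induction h generalizing φ with
  | one => rw [P.hom_ext K φ φ₁ (by rw [← hgm, hφ₁])]
  | cons x y g hg' ih =>
    obtain ⟨φ'', hφ''⟩ := P.exists_hom K g hg'.mem
    rw [eval_step P hε x y hg'.mem φ'' φ hφ'' hgm.symm]
    exact ih φ'' hφ''.symm

end Val

end Groth.Agent.QuadConn
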