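import Groth.Agent.CliffSm.Field
import Groth.Agent.QuadSm.Main
import Mathlib

/-!
# The Lie algebra of an orthogonal group over a field
-/

set_option autoImplicit false
noncomputable section

universe u

open Matrix
open Groth.Agent.QuadCentre

namespace Groth.Agent.QuadConn

variable {K : Type u} [Field K] {n : ℕ}

/-- Alternating matrices. -/
def altMat (K : Type u) [Field K] (n : ℕ) : Submodule K (Matrix (Fin n) (Fin n) K) where
  carrier := {W | Wᵀ = -W ∧ ∀ i, W i i = 0}
  add_mem' {W V} hW hV := ⟨by rw [transpose_add, hW.1, hV.1, neg_add],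
    fun i => by rw [Matrix.add_apply, hW.2, hV.2, add_zero]⟩
  zero_mem' := ⟨by simp, fun _ => rfl⟩
  smul_mem' c W hW := ⟨by rw [transpose_smul, hW.1, smul_neg],
    fun i => by rw [Matrix.smul_apply, hW.2, smul_zero]⟩

theorem mem_altMat {W : Matrix (Fin n) (Fin n) K} : W ∈ altMat K n ↔ Wᵀ = -W ∧ ∀ i, W i i = 0 := Iff.rfl

theorem altMat_apply_swap {W : Matrix (Fin n) (Fin n) K} (hW : W ∈ altMat K n) (i j : Fin n) :
    W j i = -W i j := congrFun (congrFun hW.1 i) j

/-- Coordinates above the diagonal. -/
def altEquiv : altMat K n ≃ₗ[K] ({p : Fin n × Fin n // p.1 < p.2} → K) where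
  toFun W p := W.1 p.1.1 p.1.2
  map_add' _ _ := rfl
  map_smul' _ _ := rfl
  invFun f := ⟨Matrix.of fun i j => if h : i < j then f ⟨(i, j), h⟩ else if h' : j < i then -f ⟨(j, i), h'⟩ else 0, by
    refine ⟨?_, fun i => by simp⟩
    ext i j
    simp only [transpose_apply, Matrix.neg_apply, of_apply]
    rcases lt_trichotomy i j with h | rfl | h
    · simp [h, h.not_gt]
    · simp
    · simp [h, h.not_gt]⟩
  left_inv W := by
    refine Subtype.ext (Matrix.ext fun i j => ?_)
    simp only [of_apply]
    rcases lt_trichotomy i j with h | rfl | h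
    · simp [h]
    · simp [W.2.2 i]
    · simp [h, h.not_gt, altMat_apply_swap W.2 j i]
  right_inv f := by
    funext p
    simp [p.2]

theorem finrank_altMat : Module.finrank K (altMat K n) = n * (n - 1) / 2 := by
  rw [LinearEquiv.finrank_eq altEquiv, Module.finrank_pi]
  have e : {p : Fin n × Fin n // p.1 < p.2} ≃ Σ j : Fin n, {i : Fin n // i < j} :=
    { toFun := fun p => ⟨p.1.2, p.1.1, p.2⟩, invFun := fun x => ⟨(x.2.1, x.1), x.2.2⟩
      left_inv := fun p => rfl, right_inv := fun x => rfl }
  rw [Fintype.card_congr e, Fintype.card_sigma]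
  have h : ∀ j : Fin n, Fintype.card {i : Fin n // i < j} = j := fun j => by
    rw [Fintype.card_subtype, show (Finset.univ.filter fun i : Fin n => i < j) = Finset.Iio j by ext; simp,
      Fin.card_Iio]
  simp_rw [h]
  rw [Fin.sum_univ_eq_sum_range (fun i => i), Finset.sum_range_id]

variable (a : Sym2 (Fin n) → K) (sp : Bool)

/-- The Lie algebra of the group of the table `a`. -/
def lie : Submodule K (Matrix (Fin n) (Fin n) K) where
  carrier := {Y | polA a * Y ∈ altMat K n ∧ (sp → Y.trace = 0)}
  add_mem' {Y Z} hY hZ := ⟨by rw [Matrix.mul_add]; exact add_mem hY.1 hZ.1,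
    fun h => by rw [trace_add, hY.2 h, hZ.2 h, add_zero]⟩
  zero_mem' := ⟨by rw [Matrix.mul_zero]; exact zero_mem _, fun _ => trace_zero _ _⟩
  smul_mem' c Y hY := ⟨by rw [Matrix.mul_smul]; exact Submodule.smul_mem _ _ hY.1,
    fun h => by rw [trace_smul, hY.2 h, smul_zero]⟩

theorem trace_mul_alt {S W : Matrix (Fin n) (Fin n) K} (hS : Sᵀ = S) (hW : W ∈ altMat K n) :
    (S * W).trace = 0 := by
  classical
  rw [Matrix.trace]
  simp only [Matrix.diag_apply, Matrix.mul_apply]
  rw [← Fintype.sum_prod_type' (f := fun i j => S i j * W j i)]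
  refine Finset.sum_involution (fun p _ => (p.2, p.1)) (fun p _ => ?_) (fun p _ hp => ?_)
    (fun p _ => Finset.mem_univ _) (fun p _ => rfl)
  · simp only
    rw [altMat_apply_swap hW p.1 p.2, show S p.2 p.1 = S p.1 p.2 from congrFun (congrFun hS p.1) p.2]
    ring
  · intro h
    obtain ⟨i, j⟩ := p
    simp only [Prod.mk.injEq] at h
    exact hp (by simp only [h.1, hW.2, mul_zero])

theorem finrank_lie_regular (ha : IsUnit (polA a).det) :
    Module.finrank K (lie a sp) = n * (n - 1) / 2 := by
  rw [← finrank_altMat (K := K)]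
  let L : lie a sp →ₗ[K] altMat K n :=
    { toFun := fun Y => ⟨polA a * Y.1, Y.2.1⟩
      map_add' := fun Y Z => Subtype.ext (Matrix.mul_add _ _ _)
      map_smul' := fun c Y => Subtype.ext (Matrix.mul_smul _ _ _) }
  refine LinearEquiv.finrank_eq (LinearEquiv.ofBijective L ⟨fun Y Z h => Subtype.ext ?_, fun W => ?_⟩)
  · have h' : polA a * Y.1 = polA a * Z.1 := congrArg Subtype.val h
    rw [← Matrix.nonsing_inv_mul_cancel_left (polA a) Y.1 ha, h', Matrix.nonsing_inv_mul_cancel_left _ _ ha]
  · have h1 : polA a * ((polA a)⁻¹ * W.1) = W.1 := by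
      rw [← Matrix.mul_assoc, Matrix.mul_nonsing_inv _ ha, Matrix.one_mul]
    refine ⟨⟨(polA a)⁻¹ * W.1, ?_, fun _ => ?_⟩, Subtype.ext h1⟩
    · rw [h1]; exact W.2
    · exact trace_mul_alt (by rw [transpose_nonsing_inv, polA_transpose]) W.2

/-- Zero a column. -/
def killCol (k : Fin n) (W : Matrix (Fin n) (Fin n) K) : Matrix (Fin n) (Fin n) K :=
  Matrix.of fun i j => if j = k then 0 else W i j

theorem finrank_lie_kernel {k : Fin n} (hr : ∀ i, polA a k i = 0)
    (hadj : (polA a).adjugate k k ≠ 0) : Module.finrank K (lie a true) = n * (n - 1) / 2 := by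
  classical
  rw [← finrank_altMat (K := K)]
  set P := polA a
  have hc : ∀ i, P i k = 0 := fun i => by
    rw [← transpose_apply P k i, polA_transpose]; exact hr i
  set M := P.updateRow k (Pi.single k 1) with hM
  have hMdet : IsUnit M.det := by
    rw [isUnit_iff_ne_zero]; rwa [Matrix.adjugate_apply] at hadj
  have hMk : ∀ Y : Matrix (Fin n) (Fin n) K, ∀ j, (M * Y) k j = Y k j := fun Y j => by
    rw [Matrix.mul_apply, Finset.sum_eq_single k]
    · simp [hM]
    · intro b _ hb; simp [hM, hb]
    · intro h; exact absurd (Finset.mem_univ k) h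
  have hMi : ∀ Y : Matrix (Fin n) (Fin n) K, ∀ i j, i ≠ k → (M * Y) i j = (P * Y) i j := fun Y i j hi => by
    simp only [Matrix.mul_apply, hM, updateRow_ne hi]
  have hPk : ∀ Y : Matrix (Fin n) (Fin n) K, ∀ j, (P * Y) k j = 0 := fun Y j => by
    simp [Matrix.mul_apply, hr]
  let L₀ : Matrix (Fin n) (Fin n) K →ₗ[K] Matrix (Fin n) (Fin n) K :=
    { toFun := fun Y => Matrix.of fun i j =>
        if i = k then (if j = k then 0 else Y k j) else if j = k then -Y k i else (P * Y) i j
      map_add' := fun Y Z => by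
        ext i j
        simp only [of_apply, Matrix.add_apply, Matrix.mul_add]
        split_ifs <;> abel
      map_smul' := fun c Y => by
        ext i j
        simp only [of_apply, Matrix.smul_apply, Matrix.mul_smul, RingHom.id_apply]
        split_ifs <;> simp }
  have hmem : ∀ Y ∈ lie a true, L₀ Y ∈ altMat K n := by
    intro Y hY
    refine ⟨?_, fun i => ?_⟩
    · ext i j
      simp only [L₀, LinearMap.coe_mk, AddHom.coe_mk, transpose_apply, Matrix.neg_apply, of_apply]
      by_cases hi : i = k <;> by_cases hj : j = k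
      all_goals simp [hi, hj]
      exact altMat_apply_swap hY.1 i j
    · simp only [L₀, LinearMap.coe_mk, AddHom.coe_mk, of_apply]
      by_cases hi : i = k
      · simp [hi]
      · simp only [hi, if_false]
        exact hY.1.2 i
  let L : lie a true →ₗ[K] altMat K n :=
    { toFun := fun Y => ⟨L₀ Y.1, hmem Y.1 Y.2⟩
      map_add' := fun Y Z => Subtype.ext (map_add L₀ _ _)
      map_smul' := fun c Y => Subtype.ext (map_smul L₀ c _) }
  refine LinearEquiv.finrank_eq (LinearEquiv.ofBijective L ⟨?_, fun W => ?_⟩)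
  · rw [injective_iff_map_eq_zero]
    intro Y hY
    have h0 : ∀ i j, L₀ Y.1 i j = 0 := fun i j =>
      congrFun (congrFun (congrArg Subtype.val hY : L₀ Y.1 = 0) i) j
    have hMY : ∀ i j, (i ≠ k ∨ j ≠ k) → (M * Y.1) i j = 0 := by
      intro i j hij
      by_cases hi : i = k
      · subst hi
        have := h0 i j
        simp only [L₀, LinearMap.coe_mk, AddHom.coe_mk, of_apply, if_true] at this
        rw [if_neg (hij.resolve_left (not_not_intro rfl))] at this
        rw [hMk]; exact this
      · rw [hMi _ _ _ hi]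
        by_cases hj : j = k
        · subst hj
          rw [altMat_apply_swap Y.2.1, hPk, neg_zero]
        · simpa [L₀, hi, hj] using h0 i j
    have hY' : Y.1 = M⁻¹ * Matrix.single k k (Y.1 k k) := by
      have h1 : M * Y.1 = Matrix.single k k (Y.1 k k) := by
        ext i j
        by_cases h : i = k ∧ j = k
        · rw [h.1, h.2, hMk, Matrix.single_apply_same]
        · rw [hMY i j (not_and_or.mp h), Matrix.single_apply_of_ne]
          exact fun h' => h ⟨h'.1.symm, h'.2.symm⟩
      rw [← h1, ← Matrix.mul_assoc, Matrix.nonsing_inv_mul _ hMdet, Matrix.one_mul]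
    have hcol : ∀ r, r ≠ k → Y.1 r r = 0 := fun r hr' => by
      rw [hY', Matrix.mul_apply]
      refine Finset.sum_eq_zero fun b _ => ?_
      rw [Matrix.single_apply_of_ne _ _ _ _ _ (fun h => hr' h.2.symm), mul_zero]
    have hkk : Y.1 k k = 0 := by
      have := Y.2.2 rfl
      rwa [Matrix.trace, Finset.sum_eq_single k] at this
      · exact fun r _ hr' => hcol r hr'
      · exact fun h => absurd (Finset.mem_univ k) h
    refine Subtype.ext ?_
    rw [hY', hkk, Matrix.single_zero, Matrix.mul_zero]
    rfl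
  · set N := M⁻¹ with hN
    have hMN : M * N = 1 := Matrix.mul_nonsing_inv _ hMdet
    have hNkk : N k k = 1 := by
      have := congrFun (congrFun hMN k) k
      rwa [hMk, one_apply_eq] at this
    set X₀ := killCol k W.1
    set X := X₀ + Matrix.single k k (-(N * X₀).trace)
    set Y := N * X
    have hMY : M * Y = X := by rw [← Matrix.mul_assoc, hMN, Matrix.one_mul]
    have htr : Y.trace = 0 := by
      rw [show Y = N * X₀ + N * Matrix.single k k (-(N * X₀).trace) from Matrix.mul_add _ _ _, trace_add,
        Matrix.trace_mul_comm N (Matrix.single _ _ _), Matrix.trace_single_mul, hNkk, smul_eq_mul, mul_one,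
        add_neg_cancel]
    have hPY : ∀ i j, (P * Y) i j = if i = k ∨ j = k then 0 else W.1 i j := by
      intro i j
      by_cases hi : i = k
      · subst hi; rw [hPk, if_pos (Or.inl rfl)]
      · rw [← hMi _ _ _ hi, hMY]
        have : Matrix.single k k (-(N * X₀).trace) i j = 0 :=
          Matrix.single_apply_of_ne _ _ _ _ _ (fun h => hi h.1.symm)
        simp only [X, Matrix.add_apply]
        rw [this, add_zero]
        simp only [X₀, killCol, of_apply, hi, false_or]
    have hYlie : Y ∈ lie a true := by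
      refine ⟨⟨?_, fun i => ?_⟩, fun _ => htr⟩
      · ext i j
        show (P * Y) j i = -((P * Y) i j)
        rw [hPY, hPY]
        by_cases hi : i = k <;> by_cases hj : j = k <;> simp [hi, hj, altMat_apply_swap W.2 i j]
      · show (P * Y) i i = 0
        rw [hPY]; split_ifs
        · rfl
        · exact W.2.2 i
    refine ⟨⟨Y, hYlie⟩, Subtype.ext (Matrix.ext fun i j => ?_)⟩
    have hrow : ∀ j, j ≠ k → Y k j = W.1 k j := fun j hj => by
      rw [← hMk Y j, hMY]
      simp [X, X₀, killCol, hj, Matrix.single_apply_of_ne _ _ _ _ _ (fun h : k = k ∧ k = j => hj h.2.symm)]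
    show L₀ Y i j = W.1 i j
    simp only [L₀, LinearMap.coe_mk, AddHom.coe_mk, of_apply]
    by_cases hi : i = k <;> by_cases hj : j = k
    · simp [hi, hj, W.2.2]
    · simp [hi, hj, hrow j hj]
    · simp [hi, hj, hrow i hi, ← altMat_apply_swap W.2 k i]
    · simp [hi, hj, hPY]

theorem finrank_lie_transA {g : Matrix (Fin n) (Fin n) K} (hg : IsUnit g.det) :
    Module.finrank K (lie (transA a g) sp) = Module.finrank K (lie a sp) := by
  let L : lie a sp →ₗ[K] lie (transA a g) sp :=
    { toFun := fun Y => ⟨g⁻¹ * Y.1 * g, by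
        have h : polA (transA a g) * (g⁻¹ * Y.1 * g) = gᵀ * (polA a * Y.1) * g := by
          simp only [polA_transA, Matrix.mul_assoc, Matrix.mul_nonsing_inv_cancel_left _ _ hg]
        refine ⟨?_, fun hs => ?_⟩
        · rw [h]
          refine ⟨by rw [transpose_mul, transpose_mul, transpose_transpose, Y.2.1.1]; simp [Matrix.mul_assoc],
            fun i => ?_⟩
          have h0 : gᵀ * (polA a * Y.1) * g = gᵀ * ((polA a * Y.1) * g) := Matrix.mul_assoc _ _ _
          have := trace_mul_alt (S := vecMulVec (fun r => g r i) (fun r => g r i))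
            (by ext r s; simp [vecMulVec_apply, mul_comm]) Y.2.1
          rw [Matrix.trace] at this
          simp only [Matrix.diag_apply, Matrix.mul_apply, vecMulVec_apply, transpose_apply,
            Finset.sum_mul] at this ⊢
          refine Eq.trans ?_ this
          refine Finset.sum_congr rfl fun r _ => Finset.sum_congr rfl fun s _ => ?_
          simp only [Finset.mul_sum, Finset.sum_mul]
          refine Finset.sum_congr rfl fun t _ => ?_
          ring
        · rw [Matrix.trace_mul_comm, ← Matrix.mul_assoc, Matrix.mul_nonsing_inv _ hg, Matrix.one_mul,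
            Y.2.2 hs]⟩
      map_add' := fun Y Z => Subtype.ext (by
        show g⁻¹ * (Y.1 + Z.1) * g = g⁻¹ * Y.1 * g + g⁻¹ * Z.1 * g
        rw [Matrix.mul_add, Matrix.add_mul])
      map_smul' := fun c Y => Subtype.ext (by
        show g⁻¹ * (c • Y.1) * g = c • (g⁻¹ * Y.1 * g)
        rw [Matrix.mul_smul, Matrix.smul_mul]) }
  refine (LinearEquiv.finrank_eq (LinearEquiv.ofBijective L ⟨fun Y Z h => Subtype.ext ?_, fun W => ?_⟩)).symm
  · have h' : g⁻¹ * Y.1 * g = g⁻¹ * Z.1 * g := congrArg Subtype.val h
    have h'' : g⁻¹ * Y.1 = g⁻¹ * Z.1 := by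
      rw [← Matrix.mul_nonsing_inv_cancel_right g (g⁻¹ * Y.1) hg, h', Matrix.mul_nonsing_inv_cancel_right _ _ hg]
    rw [← Matrix.mul_nonsing_inv_cancel_left g Y.1 hg, h'', Matrix.mul_nonsing_inv_cancel_left _ _ hg]
  · have h1 : polA a * (g * W.1 * g⁻¹) = (g⁻¹)ᵀ * (polA (transA a g) * W.1) * g⁻¹ := by
      rw [polA_transA]
      simp only [← Matrix.mul_assoc, ← transpose_mul, Matrix.mul_nonsing_inv _ hg, transpose_one, Matrix.one_mul]
    refine ⟨⟨g * W.1 * g⁻¹, ?_, fun hs => ?_⟩, Subtype.ext ?_⟩
    · rw [h1]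
      refine ⟨by rw [transpose_mul, transpose_mul, transpose_transpose, W.2.1.1]; simp [Matrix.mul_assoc],
        fun i => ?_⟩
      have := trace_mul_alt (S := vecMulVec (fun r => g⁻¹ r i) (fun r => g⁻¹ r i))
        (by ext r s; simp [vecMulVec_apply, mul_comm]) W.2.1
      rw [Matrix.trace] at this
      simp only [Matrix.diag_apply, Matrix.mul_apply, vecMulVec_apply, transpose_apply, Finset.sum_mul] at this ⊢
      refine Eq.trans ?_ this
      refine Finset.sum_congr rfl fun r _ => Finset.sum_congr rfl fun s _ => ?_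
      simp only [Finset.mul_sum, Finset.sum_mul]
      refine Finset.sum_congr rfl fun t _ => ?_
      ring
    · rw [Matrix.trace_mul_comm, ← Matrix.mul_assoc, Matrix.nonsing_inv_mul _ hg, Matrix.one_mul, W.2.2 hs]
    · show g⁻¹ * (g * W.1 * g⁻¹) * g = W.1
      simp [Matrix.mul_assoc, Matrix.nonsing_inv_mul_cancel_left _ _ hg, Matrix.nonsing_inv_mul _ hg]

theorem finrank_lie_odd (hn : Odd n) (ha : hdA a ≠ 0) :
    Module.finrank K (lie a true) = n * (n - 1) / 2 := by
  by_cases h2 : (2 : K) = 0
  · have hdet : (polA a).det = 0 := by rw [← two_mul_hdA hn, h2, zero_mul]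
    obtain ⟨c, hc0, hc⟩ := Matrix.exists_mulVec_eq_zero_iff.mpr hdet
    obtain ⟨k, hk⟩ := Function.ne_iff.mp hc0
    set g := (1 : Matrix (Fin n) (Fin n) K).updateCol k c with hg
    have hgdet : IsUnit g.det := by
      rw [hg, ← Matrix.cramer_apply, Matrix.cramer_one]
      exact isUnit_iff_ne_zero.mpr hk
    have hr : ∀ i, polA (transA a g) k i = 0 := by
      intro i
      rw [← transpose_apply (polA (transA a g)) i k, polA_transpose, polA_transA, Matrix.mul_assoc, Matrix.mul_apply]
      refine Finset.sum_eq_zero fun r _ => ?_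
      have : (polA a * g) r k = 0 := by
        rw [Matrix.mul_apply]
        have := congrFun hc r
        simp only [Matrix.mulVec, dotProduct, Pi.zero_apply] at this
        simpa [hg] using this
      rw [this, mul_zero]
    have hh : hdA (transA a g) ≠ 0 := by
      rw [hdA_transA hn]
      exact mul_ne_zero (pow_ne_zero _ hgdet.ne_zero) ha
    rw [Groth.Agent.CliffSm.hdA_eq_of_row_eq_zero hn h2 hr] at hh
    rw [← finrank_lie_transA a true hgdet]
    exact finrank_lie_kernel _ hr (left_ne_zero_of_mul hh)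
  · refine finrank_lie_regular a true ?_
    rw [← two_mul_hdA hn]
    exact isUnit_iff_ne_zero.mpr (mul_ne_zero h2 ha)

end Groth.Agent.QuadConn
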