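import Groth.Agent.QuadConn.Conn
import Mathlib.AlgebraicGeometry.Fiber

/-!
# Smoothness and connected fibres of special orthogonal groups
-/

set_option autoImplicit false
set_option maxSynthPendingDepth 3
noncomputable section

universe u

open Matrix CategoryTheory AlgebraicGeometry
open scoped TensorProduct
open Groth.Agent.QuadCentre Groth.Agent.QuadSm
open QuadGrp (baseChangeForm)

namespace Groth.Agent.QuadConn

variable {R : Type u} [CommRing R]

theorem fibres_connected {n : ℕ} {Q : QuadraticForm R (Fin n → R)} {B : Type u} [CommRing B] [Algebra R B]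
    [Algebra.FiniteType R B] {H : Matrix (Fin n) (Fin n) B} (P : Pres Q B H)
    (hew : ∀ (K : Type u) [Field K] [IsAlgClosed K] [Algebra R K], ∀ g ∈ QuadGrp.sorth Q K, EW Q g)
    {G : Over (Spec (CommRingCat.of R))} (u : QuadGrp.specOver R B ⟶ G) [IsIso u]
    (s : ↥(Spec (CommRingCat.of R))) : ConnectedSpace ↥(G.hom.fiber s) := by
  haveI : IsIso u.left := (Over.forget _).map_isIso u
  let v := u.left.homeomorph
  have hcomp : ∀ x, G.hom (v x) = PrimeSpectrum.comap (algebraMap R B) x := by
    intro x
    show (u.left ≫ G.hom) x = _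
    rw [Over.w u]
    rfl
  have hset : (G.hom : G.left → Spec (CommRingCat.of R)) ⁻¹' {s} =
      v '' (PrimeSpectrum.comap (algebraMap R B) ⁻¹' {s}) := by
    ext y
    obtain ⟨x, rfl⟩ := v.surjective y
    rw [Set.mem_preimage, hcomp]
    refine ⟨fun h => ⟨x, h, rfl⟩, ?_⟩
    rintro ⟨x', hx', hxx'⟩
    rw [v.injective hxx'] at hx'
    exact hx'
  have hconn : _root_.IsConnected ((G.hom : G.left → Spec (CommRingCat.of R)) ⁻¹' {s}) := by
    rw [hset]
    exact (isConnected_preimage P hew s).image v v.continuous.continuousOn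
  haveI := isConnected_iff_connectedSpace.1 hconn
  exact (G.hom.fiberHomeo s).symm.surjective.connectedSpace (G.hom.fiberHomeo s).symm.continuous

theorem main_odd {n : ℕ} (hn : Odd n) (Q : QuadraticForm R (Fin n → R)) (hu : IsUnit (hdA (table Q)))
    (G : Over (Spec (CommRingCat.of R))) [GrpObj G] (D : QuadGrp.SOrthRep Q G) :
    SmoothOfRelativeDimension (n * (n - 1) / 2) G.hom ∧
      ∀ s : ↥(Spec (CommRingCat.of R)), ConnectedSpace ↥(G.hom.fiber s) := by
  let B := Coord (table Q) true
  have P := pres_odd Q hn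
  obtain ⟨u, hiso⟩ := P.exists_iso G D
  haveI := formallySmooth_odd (a := table Q) hn hu
  haveI : Algebra.Smooth R B := ⟨inferInstance, inferInstance⟩
  refine ⟨smoothOfRelativeDimension_of_iso _ (fun p => ?_) u,
    fibres_connected P (fun K _ _ _ => ew_odd hn Q hu) u⟩
  rw [finrank_derivation, finrank_lie_odd _ hn]
  rw [← hdA_map]
  exact (hu.map _).ne_zero

theorem main_even {k : ℕ} (hk : 1 ≤ k) (Q : QuadraticForm R (Fin (2 * k) → R)) (hQ : QuadGrp.IsRegular Q)
    (G : Over (Spec (CommRingCat.of R))) [GrpObj G] (D : QuadGrp.SOrthRep Q G) :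
    SmoothOfRelativeDimension (2 * k * (2 * k - 1) / 2) G.hom ∧
      ∀ s : ↥(Spec (CommRingCat.of R)), ConnectedSpace ↥(G.hom.fiber s) := by
  obtain ⟨e, he, P⟩ := pres_even Q hQ
  let C := Coord (table Q) false
  let B := C ⧸ Ideal.span {1 - e}
  obtain ⟨u, hiso⟩ := P.exists_iso G D
  have hdet := isUnit_polA_det_of_regular Q hQ
  haveI := formallySmooth_regular (a := table Q) (sp := false) hdet (fun h => absurd h (by simp))
  haveI : Algebra.Smooth R C := ⟨inferInstance, inferInstance⟩
  haveI : Algebra.Smooth R B := smooth_quot_idem he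
  refine ⟨smoothOfRelativeDimension_of_iso _ (fun p => ?_) u,
    fibres_connected P (fun K _ _ _ => ew_even hk Q hQ) u⟩
  rw [finrank_derivation_quot (C := C) Ideal.Quotient.mk_surjective he Ideal.mk_ker,
    finrank_derivation, finrank_lie_regular]
  rw [← polA_map, ← RingHom.mapMatrix_apply, ← RingHom.map_det]
  exact hdet.map _

end Groth.Agent.QuadConn
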