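import Groth.Agent.QuadConn.RelDim
import Groth.Agent.QuadConn.Dickson
import Mathlib.RingTheory.Localization.Away.Basic

/-!
# Presentations of special orthogonal groups
-/

set_option autoImplicit false
noncomputable section

universe u

open Matrix CategoryTheory AlgebraicGeometry MonObj
open scoped TensorProduct
open Groth.Agent.QuadCentre Groth.Agent.QuadSm
open QuadGrp (baseChangeForm)

namespace Groth.Agent.QuadConn

variable {R : Type u} [CommRing R] {n : ℕ} (Q : QuadraticForm R (Fin n → R))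

/-- A ring representing the special orthogonal group through a matrix. -/
structure Pres (B : Type u) [CommRing B] [Algebra R B] (H : Matrix (Fin n) (Fin n) B) : Prop where
  mem : ∀ (A : Type u) [CommRing A] [Algebra R A] (φ : B →ₐ[R] A),
    ∃ e ∈ QuadGrp.sorth Q A, mat A e = H.map φ
  exists_hom : ∀ (A : Type u) [CommRing A] [Algebra R A] (e : (A ⊗[R] (Fin n → R)) ≃ₗ[A] (A ⊗[R] (Fin n → R))),
    e ∈ QuadGrp.sorth Q A → ∃ φ : B →ₐ[R] A, H.map φ = mat A e
  hom_ext : ∀ (A : Type u) [CommRing A] [Algebra R A] (φ ψ : B →ₐ[R] A), H.map φ = H.map ψ → φ = ψ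

theorem mat_injective (A : Type u) [CommRing A] [Algebra R A]
    {e e' : (A ⊗[R] (Fin n → R)) ≃ₗ[A] (A ⊗[R] (Fin n → R))} (h : mat A e = mat A e') : e = e' :=
  LinearEquiv.toLinearMap_injective ((LinearMap.toMatrix (bA R n A) (bA R n A)).injective h)

variable {Q} in
/-- A group scheme with these points is the spectrum of a presenting ring. -/
theorem Pres.exists_iso {B : Type u} [CommRing B] [Algebra R B] {H : Matrix (Fin n) (Fin n) B}
    (P : Pres Q B H) (G : Over (Spec (CommRingCat.of R))) [GrpObj G] (D : QuadGrp.SOrthRep Q G) :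
    ∃ u : QuadGrp.specOver R B ⟶ G, IsIso u := by
  obtain ⟨e₀, he₀, hm₀⟩ := P.mem B (AlgHom.id R B)
  let u : QuadGrp.specOver R B ⟶ G := (D.pts B).symm ⟨e₀, he₀⟩
  have hmat : ∀ (A : Type u) [CommRing A] [Algebra R A] (φ : B →ₐ[R] A),
      mat A (D.pts A (QuadGrp.specOverMap R φ ≫ u)).1 = H.map φ := by
    intro A _ _ φ
    ext i j
    have h0 : H i j = mat B e₀ i j := (congrFun (congrFun hm₀ i) j).symm
    rw [Matrix.map_apply, h0]
    simp only [mat, LinearMap.toMatrix_apply, LinearEquiv.coe_coe]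
    rw [bA_apply, bA_apply, ← repr_rTensor, D.natural _ _ φ u (stdVec R j)]
    simp only [u, MulEquiv.apply_symm_apply]
  refine ⟨u, isIso_of_points u fun A _ _ => ⟨fun f g hfg => ?_, fun y => ?_⟩⟩
  · obtain ⟨φ, rfl⟩ := specOverMap_surjective f
    obtain ⟨ψ, rfl⟩ := specOverMap_surjective g
    dsimp only at hfg
    rw [P.hom_ext A φ ψ (by rw [← hmat, ← hmat, hfg])]
  · obtain ⟨φ, hφ⟩ := P.exists_hom A _ (D.pts A y).2
    exact ⟨QuadGrp.specOverMap R φ,
      (D.pts A).injective (Subtype.ext (mat_injective A ((hmat A φ).trans hφ)))⟩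

theorem finrank_base (A : Type u) [CommRing A] [Algebra R A] [Nontrivial A] :
    Module.finrank A (A ⊗[R] (Fin n → R)) = n := by
  rw [Module.finrank_eq_card_basis (bA R n A), Fintype.card_fin]

theorem equiv_eq_one (A : Type u) [CommRing A] [Algebra R A] [Subsingleton A]
    (e : (A ⊗[R] (Fin n → R)) ≃ₗ[A] (A ⊗[R] (Fin n → R))) : e = 1 :=
  mat_injective A (Subsingleton.elim _ _)

theorem mem_sorth_iff_odd (hn : Odd n) (A : Type u) [CommRing A] [Algebra R A]
    (e : (A ⊗[R] (Fin n → R)) ≃ₗ[A] (A ⊗[R] (Fin n → R))) :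
    e ∈ QuadGrp.sorth Q A ↔ Good (table Q) true A (mat A e) := by
  rcases subsingleton_or_nontrivial A with hA | hA
  · refine iff_of_true (equiv_eq_one A e ▸ one_mem _) ⟨funext fun v => Subsingleton.elim _ _, ?_, fun _ => Subsingleton.elim _ _⟩
    exact isUnit_of_subsingleton _
  unfold QuadGrp.sorth QuadGrp.SO
  rw [finrank_base, if_neg (Nat.not_even_iff_odd.2 hn)]
  rw [QuadGrp.SO', Subgroup.mem_inf, MonoidHom.mem_ker, det_eq_one_iff, mem_O_iff_good]
  exact ⟨fun h => ⟨h.1.1, h.1.2.1, fun _ => h.2⟩, fun h => ⟨⟨h.1, h.2.1, fun h' => absurd h' (by simp)⟩, h.2.2 rfl⟩⟩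

theorem pres_odd (hn : Odd n) : Pres Q (Coord (table Q) true) (genH (table Q) true) where
  mem A _ _ φ := by
    refine ⟨autMat A _ ((good_genH (table Q) true).map _ _ φ).2.1, ?_, mat_autMat A _ _⟩
    rw [mem_sorth_iff_odd Q hn, mat_autMat]
    exact (good_genH (table Q) true).map _ _ φ
  exists_hom A _ _ e he := QuadSm.exists_hom ((mem_sorth_iff_odd Q hn A e).1 he)
  hom_ext A _ _ φ ψ h := QuadSm.hom_ext h

theorem mem_sorth_iff_even (hn : Even n) (A : Type u) [CommRing A] [Algebra R A]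
    (e : (A ⊗[R] (Fin n → R)) ≃ₗ[A] (A ⊗[R] (Fin n → R))) :
    e ∈ QuadGrp.sorth Q A ↔ e ∈ QuadGrp.SOeven (baseChangeForm A Q) := by
  rcases subsingleton_or_nontrivial A with hA | hA
  · exact iff_of_true (equiv_eq_one A e ▸ one_mem _) (equiv_eq_one A e ▸ one_mem _)
  unfold QuadGrp.sorth QuadGrp.SO
  rw [finrank_base, if_pos hn]

variable {k : ℕ} (Q₂ : QuadraticForm R (Fin (2 * k) → R))

theorem pres_even (hQ : QuadGrp.IsRegular Q₂) :
    ∃ e : Coord (table Q₂) false, IsIdempotentElem e ∧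
      Pres Q₂ (Coord (table Q₂) false ⧸ Ideal.span {1 - e})
        ((genH (table Q₂) false).map (Ideal.Quotient.mkₐ R (Ideal.span {1 - e}))) := by
  obtain ⟨e, he, key⟩ := exists_dickson_idem Q₂ hQ
  let qm := Ideal.Quotient.mkₐ R (Ideal.span {1 - e})
  have hqe : qm e = 1 := by
    rw [← map_one qm]
    refine (Ideal.Quotient.eq.2 ?_).symm
    exact Ideal.mem_span_singleton_self _
  refine ⟨e, he, ⟨fun A _ _ φ => ?_, fun A _ _ g hg => ?_, fun A _ _ φ ψ h => ?_⟩⟩
  · let φ' := φ.comp qm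
    have hgood := (good_genH (table Q₂) false).map _ _ φ'
    refine ⟨autMat A _ hgood.2.1, (mem_sorth_iff_even Q₂ (even_two_mul k) A _).2
      ((key A φ' _ (mat_autMat A _ _)).2 (show φ (qm e) = 1 by rw [hqe, map_one])), ?_⟩
    rw [mat_autMat, Matrix.map_map]
    rfl
  · have hg' := (mem_sorth_iff_even Q₂ (even_two_mul k) A g).1 hg
    obtain ⟨φ, hφ⟩ := QuadSm.exists_hom ((mem_O_iff_good Q₂ A g).1 hg'.1)
    have h1 := (key A φ g hφ.symm).1 hg'
    have hker : ∀ x ∈ Ideal.span {1 - e}, φ x = 0 := fun x hx => by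
      obtain ⟨y, rfl⟩ := Ideal.mem_span_singleton'.1 hx
      rw [map_mul, map_sub, map_one, h1, sub_self, mul_zero]
    refine ⟨Ideal.Quotient.liftₐ _ φ hker, ?_⟩
    rw [Matrix.map_map, ← hφ]
    rfl
  · refine Ideal.Quotient.algHom_ext _ (QuadSm.hom_ext ?_)
    rw [Matrix.map_map, Matrix.map_map] at h
    exact h

theorem smooth_quot_idem {C : Type u} [CommRing C] [Algebra R C] [Algebra.Smooth R C] {e : C}
    (he : IsIdempotentElem e) : Algebra.Smooth R (C ⧸ Ideal.span {1 - e}) := by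
  haveI : IsLocalization.Away e (C ⧸ Ideal.span {1 - e}) :=
    IsLocalization.away_of_isIdempotentElem he (by simp [Ideal.Quotient.algebraMap_eq]) Ideal.Quotient.mk_surjective
  haveI : Algebra.Smooth C (C ⧸ Ideal.span {1 - e}) := Algebra.Smooth.of_isLocalization_Away e
  exact Algebra.Smooth.comp R C _

end Groth.Agent.QuadConn
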