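import Groth.Agent.QuadConn.Lie
import Mathlib.Algebra.DualNumber
import Mathlib.RingTheory.Smooth.StandardSmoothOfFree
import Mathlib.RingTheory.Etale.Kaehler
import Mathlib.AlgebraicGeometry.Morphisms.Smooth

/-!
# The relative dimension of orthogonal groups
-/

set_option autoImplicit false
noncomputable section

universe u

open Matrix CategoryTheory AlgebraicGeometry TrivSqZeroExt
open scoped TensorProduct
open Groth.Agent.QuadCentre Groth.Agent.QuadSm

namespace Groth.Agent.QuadConn

section Tangent

variable {R : Type u} [CommRing R] {n : ℕ} (a : Sym2 (Fin n) → R) (sp : Bool)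
variable {K : Type u} [Field K] [Algebra R K]

/-- The matrix of a first-order deformation. -/
def defMat (g : Matrix (Fin n) (Fin n) K) (Y : Matrix (Fin n) (Fin n) K) :
    Matrix (Fin n) (Fin n) (DualNumber K) :=
  g.map inl * (1 + Y.map inr)

theorem lop_eq_zero_iff {W : Matrix (Fin n) (Fin n) K} : Lop W = 0 ↔ W ∈ altMat K n := by
  constructor
  · intro h
    refine ⟨Matrix.ext fun i j => ?_, fun i => ?_⟩
    · have h' := congrFun h (Sym2.mk i j)
      rw [Lop_mk] at h'
      rw [transpose_apply, Matrix.neg_apply]
      split_ifs at h' with hij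
      · subst hij; simp only [Pi.zero_apply] at h'; rw [h', neg_zero]
      · simp only [Pi.zero_apply] at h'; linear_combination h'
    · have h' := congrFun h (Sym2.mk i i)
      rwa [Lop_mk, if_pos rfl] at h'
  · intro h
    funext v
    induction v using Sym2.inductionOn with
    | hf i j =>
      rw [Lop_mk, Pi.zero_apply]
      split_ifs with hij
      · exact h.2 i
      · rw [altMat_apply_swap h i j, add_neg_cancel]

variable {a sp}

theorem good_defMat_iff {g : Matrix (Fin n) (Fin n) K} (hg : Good a sp K g)
    (Y : Matrix (Fin n) (Fin n) K) :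
    Good a sp (DualNumber K) (defMat g Y) ↔ Y ∈ lie (algebraMap R K ∘ a) sp := by
  let I : Ideal (DualNumber K) := RingHom.ker (fstHom K K K).toRingHom
  have hmem : ∀ x : DualNumber K, x ∈ I ↔ x.fst = 0 := fun x => Iff.rfl
  have hI : ∀ x ∈ I, ∀ y ∈ I, x * y = 0 := fun x hx y hy => by
    rw [hmem] at hx hy
    ext <;> simp [hx, hy]
  have haK : algebraMap R (DualNumber K) ∘ a = (inlHom K K) ∘ (algebraMap R K ∘ a) :=
    funext fun v => rfl
  have hG : transA (algebraMap R (DualNumber K) ∘ a) (g.map inl) =
      algebraMap R (DualNumber K) ∘ a + 0 := by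
    rw [add_zero, haK, show g.map inl = g.map (inlHom K K) from rfl, ← transA_map, hg.1]
  have key : transA (algebraMap R (DualNumber K) ∘ a) (defMat g Y) = algebraMap R (DualNumber K) ∘ a +
      fun v => inr (Lop (polA (algebraMap R K ∘ a) * Y) v) := by
    rw [defMat, transA_step hI _ 0 (fun v => I.zero_mem) _ _ (fun i j => by rw [hmem]; rfl) hG, add_zero]
    congr 1
    funext v
    have hm : polA (algebraMap R (DualNumber K) ∘ a) * Y.map inr =
        (polA (algebraMap R K ∘ a) * Y).map inr := by
      rw [haK, ← polA_map (inlHom K K)]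
      ext i j <;> simp [Matrix.mul_apply, fst_sum, snd_sum, mul_comm]
    rw [hm]
    induction v using Sym2.inductionOn with
    | hf i j =>
      simp only [Lop_mk, Matrix.map_apply]
      split_ifs <;> ext <;> simp
  have hdet : (defMat g Y).det = inl g.det * (1 + inr Y.trace) := by
    rw [defMat, det_mul, det_add_of_sq_zero 1 (Y.map inr) (fun _ _ _ _ => hI _ rfl _ rfl),
      det_one, adjugate_one, one_mul]
    congr 1
    · exact ((inlHom K K).map_det g).symm
    · congr 1
      rw [Matrix.trace, Matrix.trace]
      ext <;> simp [fst_sum, snd_sum]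
  rw [QuadSm.Good, key, add_eq_left, hdet]
  constructor
  · rintro ⟨h1, -, h2⟩
    refine ⟨lop_eq_zero_iff.1 (funext fun v => ?_), fun hs => ?_⟩
    · have := congrArg snd (congrFun h1 v)
      simpa using this
    · have := congrArg snd (h2 hs)
      rw [hg.2.2 hs] at this
      simpa using this
  · rintro ⟨h1, h2⟩
    refine ⟨funext fun v => by rw [lop_eq_zero_iff.2 h1]; rfl, ?_, fun hs => ?_⟩
    · refine (hg.2.1.map (inlHom K K)).mul (IsUnit.of_mul_eq_one (1 - inr Y.trace) ?_)
      ext <;> simp
    · rw [hg.2.2 hs, h2 hs]
      ext <;> simp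

variable (a sp) in
/-- The image of the universal point. -/
abbrev ptMat [Algebra (Coord a sp) K] : Matrix (Fin n) (Fin n) K :=
  (genH a sp).map (algebraMap (Coord a sp) K)

variable [Algebra (Coord a sp) K] [IsScalarTower R (Coord a sp) K]

theorem good_ptMat : Good a sp K (ptMat a sp) :=
  (good_genH a sp).map a sp (IsScalarTower.toAlgHom R (Coord a sp) K)

theorem mul_inv_ptMat : ptMat a sp (K := K) * (ptMat a sp)⁻¹ = 1 :=
  Matrix.mul_nonsing_inv _ good_ptMat.2.1

/-- The point of a derivation. -/
def derivPoint (D : Derivation R (Coord a sp) K) : Coord a sp →ₐ[R] DualNumber K where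
  toFun x := inl (algebraMap (Coord a sp) K x) + inr (D x)
  map_one' := by ext <;> simp
  map_mul' x y := by
    ext
    · simp
    · simp only [snd_add, snd_mul, snd_inl, snd_inr, fst_add, fst_inl, fst_inr, zero_add, add_zero,
        D.leibniz, Algebra.smul_def, op_smul_eq_smul]
      simp only [Algebra.algebraMap_self, RingHom.id_apply]
  map_zero' := by ext <;> simp
  map_add' x y := by ext <;> simp
  commutes' r := by
    ext
    · simp [← IsScalarTower.algebraMap_apply, TrivSqZeroExt.algebraMap_eq_inl']
    · simp [TrivSqZeroExt.algebraMap_eq_inl']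

theorem derivPoint_genH (D : Derivation R (Coord a sp) K) :
    (genH a sp).map (derivPoint D) = defMat (ptMat a sp) ((ptMat a sp)⁻¹ * (genH a sp).map D) := by
  have h : ptMat a sp (K := K) * ((ptMat a sp)⁻¹ * (genH a sp).map D) = (genH a sp).map D := by
    rw [← Matrix.mul_assoc, mul_inv_ptMat, Matrix.one_mul]
  rw [defMat, Matrix.mul_add, Matrix.mul_one]
  ext i j
  · simp [Matrix.mul_apply, fst_sum, derivPoint]
  · have := congrFun (congrFun h i) j
    rw [Matrix.mul_apply, Matrix.map_apply] at this
    simp [Matrix.mul_apply, snd_sum, derivPoint, ← this, mul_comm]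

/-- Derivations of the coordinate ring at a point are the Lie algebra. -/
def derivToLie : Derivation R (Coord a sp) K →ₗ[K] lie (algebraMap R K ∘ a) sp where
  toFun D := ⟨(ptMat a sp)⁻¹ * (genH a sp).map D,
    (good_defMat_iff good_ptMat _).1 (derivPoint_genH D ▸ (good_genH a sp).map a sp (derivPoint D))⟩
  map_add' D E := Subtype.ext (by
    show _ * (genH a sp).map ⇑(D + E) = _
    rw [show (genH a sp).map ⇑(D + E) = (genH a sp).map D + (genH a sp).map E from rfl, Matrix.mul_add]
    rfl)
  map_smul' c D := Subtype.ext (by
    show _ * (genH a sp).map ⇑(c • D) = _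
    rw [show (genH a sp).map ⇑(c • D) = c • (genH a sp).map D from rfl, Matrix.mul_smul]
    rfl)

theorem finrank_derivation :
    Module.finrank K (Derivation R (Coord a sp) K) =
      Module.finrank K (lie (algebraMap R K ∘ a) sp) := by
  refine LinearEquiv.finrank_eq (LinearEquiv.ofBijective (derivToLie (a := a) (sp := sp) (K := K)) ⟨?_, fun Y => ?_⟩)
  · intro D E h
    have h' : (ptMat a sp)⁻¹ * (genH a sp).map D = (ptMat a sp)⁻¹ * (genH a sp).map E :=
      congrArg Subtype.val h
    have hp : derivPoint D = derivPoint E := hom_ext (by rw [derivPoint_genH, derivPoint_genH, h'])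
    ext x
    have hx := congrArg snd (AlgHom.congr_fun hp x)
    simpa [derivPoint] using hx
  · obtain ⟨ψ, hψ⟩ := exists_hom ((good_defMat_iff (good_ptMat (K := K)) Y.1).2 Y.2)
    have hfst : ∀ x, (ψ x).fst = algebraMap (Coord a sp) K x := by
      have : (fstHom R K K).comp ψ = IsScalarTower.toAlgHom R (Coord a sp) K := by
        refine hom_ext ?_
        ext i j
        have := congrArg fst (congrFun (congrFun hψ i) j)
        rw [defMat, Matrix.mul_add, Matrix.mul_one] at this
        simpa [Matrix.mul_apply, fst_sum] using this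
      intro x
      exact AlgHom.congr_fun this x
    let D : Derivation R (Coord a sp) K := Derivation.mk'
      { toFun := fun x => (ψ x).snd
        map_add' := fun x y => by simp
        map_smul' := fun r x => by simp }
      (fun x y => by
        simp only [LinearMap.coe_mk, AddHom.coe_mk, map_mul, snd_mul, hfst, Algebra.smul_def,
          op_smul_eq_smul, smul_eq_mul]
        simp only [Algebra.algebraMap_self, RingHom.id_apply])
    refine ⟨D, Subtype.ext ?_⟩
    have hD : (genH a sp).map D = ptMat a sp (K := K) * Y.1 := by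
      ext i j
      have := congrArg snd (congrFun (congrFun hψ i) j)
      rw [defMat, Matrix.mul_add, Matrix.mul_one] at this
      simpa [D, Matrix.mul_apply, snd_sum, mul_comm] using this
    show (ptMat a sp)⁻¹ * (genH a sp).map D = Y.1
    rw [hD, ← Matrix.mul_assoc, Matrix.nonsing_inv_mul _ good_ptMat.2.1, Matrix.one_mul]

end Tangent

section Quot

variable {R C B K : Type u} [CommRing R] [CommRing C] [Algebra R C] [CommRing B] [Algebra R B]
  [Algebra C B] [IsScalarTower R C B] [Field K] [Algebra R K] [Algebra B K] [Algebra C K]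
  [IsScalarTower R B K] [IsScalarTower C B K] [IsScalarTower R C K]

theorem finrank_derivation_quot (hs : Function.Surjective (algebraMap C B)) {e : C}
    (he : IsIdempotentElem e) (hker : RingHom.ker (algebraMap C B) = Ideal.span {1 - e}) :
    Module.finrank K (Derivation R B K) = Module.finrank K (Derivation R C K) := by
  let L : Derivation R B K →ₗ[K] Derivation R C K :=
    { toFun := fun D => D.compAlgebraMap C
      map_add' := fun _ _ => rfl
      map_smul' := fun _ _ => rfl }
  refine LinearEquiv.finrank_eq (LinearEquiv.ofBijective L ⟨fun D E h => ?_, fun D => ?_⟩)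
  · ext b
    obtain ⟨c, rfl⟩ := hs b
    exact DFunLike.congr_fun h c
  · have hf1 : algebraMap C K (1 - e) = 0 := by
      have : algebraMap C B (1 - e) = 0 := by
        rw [← RingHom.mem_ker, hker]; exact Ideal.mem_span_singleton_self _
      rw [IsScalarTower.algebraMap_apply C B K, this, map_zero]
    have hD1 : D (1 - e) = 0 := by
      have h := D.leibniz (1 - e) (1 - e)
      rw [he.one_sub.eq, Algebra.smul_def, hf1, zero_mul, add_zero] at h
      exact h
    have hvan : ∀ x ∈ RingHom.ker (algebraMap C B), D x = 0 := fun x hx => by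
      rw [hker, Ideal.mem_span_singleton'] at hx
      obtain ⟨y, rfl⟩ := hx
      rw [D.leibniz, hD1, smul_zero, Algebra.smul_def, hf1, zero_mul, add_zero]
    have hwd : ∀ x y, algebraMap C B x = algebraMap C B y → D x = D y := fun x y h => by
      rw [← sub_eq_zero, ← map_sub, hvan _ (by rw [RingHom.mem_ker, map_sub, h, sub_self])]
    have hval : ∀ x, D (Function.surjInv hs (algebraMap C B x)) = D x := fun x =>
      hwd _ _ (Function.surjInv_eq hs _)
    let l : B →ₗ[R] K :=
      { toFun := fun b => D (Function.surjInv hs b)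
        map_add' := fun x y => by
          rw [← map_add]; refine hwd _ _ ?_; simp only [map_add, Function.surjInv_eq hs]
        map_smul' := fun r x => by
          rw [RingHom.id_apply, ← D.map_smul]; refine hwd _ _ ?_
          simp only [Algebra.smul_def, map_mul, ← IsScalarTower.algebraMap_apply, Function.surjInv_eq hs] }
    refine ⟨Derivation.mk' l fun x y => ?_, Derivation.ext fun x => hval x⟩
    obtain ⟨x, rfl⟩ := hs x
    obtain ⟨y, rfl⟩ := hs y
    show D (Function.surjInv hs (algebraMap C B x * algebraMap C B y)) = _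
    rw [← map_mul, hval, D.leibniz]
    show _ = algebraMap C B x • D (Function.surjInv hs _) + algebraMap C B y • D (Function.surjInv hs _)
    rw [hval, hval, algebraMap_smul, algebraMap_smul]

end Quot

section RelDim

variable {R B : Type u} [CommRing R] [CommRing B] [Algebra R B]

/-- A smooth algebra with tangent spaces of dimension `d` is smooth of relative dimension `d`. -/
theorem locally_relDim [Algebra.Smooth R B] (d : ℕ)
    (h : ∀ p : PrimeSpectrum B,
      Module.finrank p.asIdeal.ResidueField (Derivation R B p.asIdeal.ResidueField) = d) :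
    RingHom.Locally (RingHom.IsStandardSmoothOfRelativeDimension d) (algebraMap R B) := by
  have hrank : ∀ p : PrimeSpectrum B, Module.rankAtStalk (R := B) Ω[B⁄R] p = d := by
    intro p
    let κ := p.asIdeal.ResidueField
    rw [Module.rankAtStalk_eq, ← h p]
    let e : Module.Dual κ (κ ⊗[B] Ω[B⁄R]) ≃ₗ[κ] Derivation R B κ :=
      (LinearMap.liftBaseChangeEquiv κ).symm.trans
        { ((KaehlerDifferential.linearMapEquivDerivation R B (M := κ)).toAddEquiv) with
          map_smul' := fun _ _ => rfl }
    rw [← e.finrank_eq, Subspace.dual_finrank_eq]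
  choose g hg hstd using fun p : PrimeSpectrum B =>
    Algebra.IsSmoothAt.exists_notMem_isStandardSmooth R p.asIdeal
  refine ⟨Set.range g, ?_, ?_⟩
  · by_contra hne
    obtain ⟨m, hm, hle⟩ := Ideal.exists_le_maximal _ hne
    exact hg ⟨m, hm.isPrime⟩ (hle (Ideal.subset_span ⟨_, rfl⟩))
  · rintro _ ⟨p, rfl⟩
    let Ag := Localization.Away (g p)
    haveI : Algebra.IsStandardSmooth R Ag := hstd p
    obtain ⟨p', hp'⟩ : p ∈ Set.range (PrimeSpectrum.comap (algebraMap B Ag)) := by
      rw [PrimeSpectrum.localization_away_comap_range Ag (g p)]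
      exact hg p
    haveI : Nontrivial Ag := ⟨⟨0, 1, fun h => p'.isPrime.ne_top
      ((Ideal.eq_top_iff_one _).mpr (h ▸ p'.asIdeal.zero_mem))⟩⟩
    haveI : Algebra.FormallyEtale B Ag := .of_isLocalization (Submonoid.powers (g p))
    let e := KaehlerDifferential.tensorKaehlerEquivOfFormallyEtale R B Ag
    have h1 : Module.rankAtStalk (R := Ag) Ω[Ag⁄R] p' = d := by
      rw [← Module.rankAtStalk_eq_of_equiv e, Module.rankAtStalk_baseChange, hp', hrank]
    rw [Module.rankAtStalk_eq_finrank_of_free] at h1
    rw [← IsScalarTower.algebraMap_eq, RingHom.isStandardSmoothOfRelativeDimension_algebraMap,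
      Algebra.IsStandardSmoothOfRelativeDimension.iff_of_isStandardSmooth,
      ← Module.finrank_eq_rank]
    exact congrArg Nat.cast h1

theorem smoothOfRelativeDimension_of_iso [Algebra.Smooth R B] (d : ℕ)
    (h : ∀ p : PrimeSpectrum B,
      Module.finrank p.asIdeal.ResidueField (Derivation R B p.asIdeal.ResidueField) = d)
    {G : Over (Spec (CommRingCat.of R))} (u : QuadGrp.specOver R B ⟶ G) [IsIso u] :
    SmoothOfRelativeDimension d G.hom := by
  haveI : IsIso u.left := (Over.forget _).map_isIso u
  have hs : SmoothOfRelativeDimension d (Spec.map (CommRingCat.ofHom (algebraMap R B))) :=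
    (HasRingHomProperty.Spec_iff (P := @SmoothOfRelativeDimension d)).2 (locally_relDim d h)
  rw [← MorphismProperty.cancel_left_of_respectsIso (@SmoothOfRelativeDimension d) u.left G.hom,
    Over.w u]
  exact hs

end RelDim

end Groth.Agent.QuadConn
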